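import Cfsg.Agent.Lib.Helper5.St.GConj
import Cfsg.Agent.Lib.Helper5.Chev.W0All
import Cfsg.Agent.Lib.Helper5.Chev.HsB2
import Mathlib

/-!
# The checks on the fundamental roots for the presentation, type B2 (helper5)
-/

set_option autoImplicit false
set_option maxRecDepth 1000000

namespace Cfsg.Agent.Lib.Helper5.St.CkB2

open Cfsg.Lie Cfsg.Agent.Lib.Helper5.Chev Cfsg.Agent.Lib.Helper5.Tw Cfsg.Agent.Lib.Helper5.St

theorem good : goodb DataB2.fd (posL chevB2) = true := by decide +kernel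

theorem f0 : factsb DataB2.fd (BsB2.Bs.getD 0 0) (DataB2.fd.simple 0) = true := by decide +kernel
theorem p0 : listOKb DataB2.fd (BsB2.Bs.getD 0 0) (DataB2.fd.simple 0) (posNot chevB2 (DataB2.fd.simple 0)) = true := by
  decide +kernel
theorem n0 : listOKb DataB2.fd (BsB2.Bs.getD 0 0) (DataB2.fd.simple 0)
    ((posNot chevB2 (DataB2.fd.simple 0)).map (wW BsB2.Bs w0B2)) = true := by decide +kernel
theorem c0 : coverb DataB2.fd (DataB2.fd.simple 0)
    ((posNot chevB2 (DataB2.fd.simple 0)).map (wW BsB2.Bs w0B2)) = true := by decide +kernel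
theorem m0 : pmOKb DataB2.fd (BsB2.Bs.getD 0 0) (DataB2.fd.simple 0) 3 6 = true := by decide +kernel

theorem f1 : factsb DataB2.fd (BsB2.Bs.getD 1 0) (DataB2.fd.simple 1) = true := by decide +kernel
theorem p1 : listOKb DataB2.fd (BsB2.Bs.getD 1 0) (DataB2.fd.simple 1) (posNot chevB2 (DataB2.fd.simple 1)) = true := by
  decide +kernel
theorem n1 : listOKb DataB2.fd (BsB2.Bs.getD 1 0) (DataB2.fd.simple 1)
    ((posNot chevB2 (DataB2.fd.simple 1)).map (wW BsB2.Bs w0B2)) = true := by decide +kernel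
theorem c1 : coverb DataB2.fd (DataB2.fd.simple 1)
    ((posNot chevB2 (DataB2.fd.simple 1)).map (wW BsB2.Bs w0B2)) = true := by decide +kernel
theorem m1 : pmOKb DataB2.fd (BsB2.Bs.getD 1 0) (DataB2.fd.simple 1) 7 2 = true := by decide +kernel

theorem mem : chevB2 ∈ [chevG2, chevB2, chevD4, chevF4, chevE6, chevE7, chevE8] := by simp

theorem facts {K : Type*} [Field K] (hadd : AllAdd K chevB2) (i : ℕ) (hi : i < chevB2.rank) :
    SFacts K chevB2 hadd (BsB2.Bs.getD i 0) (chevB2.simple i) := by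
  have hi' : i < 2 := hi
  interval_cases i
  · exact sfacts_of_checks mem DataB2.agrees hadd BsB2.Bs HsB2.reflBs' w0B2 w0B2_lt 0 0 3 6
      hi f0 p0 n0 c0 m0
  · exact sfacts_of_checks mem DataB2.agrees hadd BsB2.Bs HsB2.reflBs' w0B2 w0B2_lt 1 1 7 2
      hi f1 p1 n1 c1 m1

end Cfsg.Agent.Lib.Helper5.St.CkB2
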