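import Cfsg.Agent.Lib.Helper5.St.GConj
import Cfsg.Agent.Lib.Helper5.Chev.W0All
import Cfsg.Agent.Lib.Helper5.Chev.HsE6
import Mathlib

/-!
# The checks on the fundamental roots for the presentation, type E6 (helper5)
-/

set_option autoImplicit false
set_option maxRecDepth 1000000

namespace Cfsg.Agent.Lib.Helper5.St.CkE6

open Cfsg.Lie Cfsg.Agent.Lib.Helper5.Chev Cfsg.Agent.Lib.Helper5.Tw Cfsg.Agent.Lib.Helper5.St

theorem good : goodb DataE6.fd (posL chevE6) = true := by decide +kernel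

theorem f0 : factsb DataE6.fd (BsE6.Bs.getD 0 0) (DataE6.fd.simple 0) = true := by decide +kernel
theorem p0 : listOKb DataE6.fd (BsE6.Bs.getD 0 0) (DataE6.fd.simple 0) (posNot chevE6 (DataE6.fd.simple 0)) = true := by
  decide +kernel
theorem n0 : listOKb DataE6.fd (BsE6.Bs.getD 0 0) (DataE6.fd.simple 0)
    ((posNot chevE6 (DataE6.fd.simple 5)).map (wW BsE6.Bs w0E6)) = true := by decide +kernel
theorem c0 : coverb DataE6.fd (DataE6.fd.simple 0)
    ((posNot chevE6 (DataE6.fd.simple 5)).map (wW BsE6.Bs w0E6)) = true := by decide +kernel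
theorem m0 : pmOKb DataE6.fd (BsE6.Bs.getD 0 0) (DataE6.fd.simple 0) 16 66 = true := by decide +kernel

theorem f1 : factsb DataE6.fd (BsE6.Bs.getD 1 0) (DataE6.fd.simple 1) = true := by decide +kernel
theorem p1 : listOKb DataE6.fd (BsE6.Bs.getD 1 0) (DataE6.fd.simple 1) (posNot chevE6 (DataE6.fd.simple 1)) = true := by
  decide +kernel
theorem n1 : listOKb DataE6.fd (BsE6.Bs.getD 1 0) (DataE6.fd.simple 1)
    ((posNot chevE6 (DataE6.fd.simple 1)).map (wW BsE6.Bs w0E6)) = true := by decide +kernel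
theorem c1 : coverb DataE6.fd (DataE6.fd.simple 1)
    ((posNot chevE6 (DataE6.fd.simple 1)).map (wW BsE6.Bs w0E6)) = true := by decide +kernel
theorem m1 : pmOKb DataE6.fd (BsE6.Bs.getD 1 0) (DataE6.fd.simple 1) 1 71 = true := by decide +kernel

theorem f2 : factsb DataE6.fd (BsE6.Bs.getD 2 0) (DataE6.fd.simple 2) = true := by decide +kernel
theorem p2 : listOKb DataE6.fd (BsE6.Bs.getD 2 0) (DataE6.fd.simple 2) (posNot chevE6 (DataE6.fd.simple 2)) = true := by
  decide +kernel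
theorem n2 : listOKb DataE6.fd (BsE6.Bs.getD 2 0) (DataE6.fd.simple 2)
    ((posNot chevE6 (DataE6.fd.simple 4)).map (wW BsE6.Bs w0E6)) = true := by decide +kernel
theorem c2 : coverb DataE6.fd (DataE6.fd.simple 2)
    ((posNot chevE6 (DataE6.fd.simple 4)).map (wW BsE6.Bs w0E6)) = true := by decide +kernel
theorem m2 : pmOKb DataE6.fd (BsE6.Bs.getD 2 0) (DataE6.fd.simple 2) 5 69 = true := by decide +kernel

theorem f3 : factsb DataE6.fd (BsE6.Bs.getD 3 0) (DataE6.fd.simple 3) = true := by decide +kernel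
theorem p3 : listOKb DataE6.fd (BsE6.Bs.getD 3 0) (DataE6.fd.simple 3) (posNot chevE6 (DataE6.fd.simple 3)) = true := by
  decide +kernel
theorem n3 : listOKb DataE6.fd (BsE6.Bs.getD 3 0) (DataE6.fd.simple 3)
    ((posNot chevE6 (DataE6.fd.simple 3)).map (wW BsE6.Bs w0E6)) = true := by decide +kernel
theorem c3 : coverb DataE6.fd (DataE6.fd.simple 3)
    ((posNot chevE6 (DataE6.fd.simple 3)).map (wW BsE6.Bs w0E6)) = true := by decide +kernel
theorem m3 : pmOKb DataE6.fd (BsE6.Bs.getD 3 0) (DataE6.fd.simple 3) 2 70 = true := by decide +kernel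

theorem f4 : factsb DataE6.fd (BsE6.Bs.getD 4 0) (DataE6.fd.simple 4) = true := by decide +kernel
theorem p4 : listOKb DataE6.fd (BsE6.Bs.getD 4 0) (DataE6.fd.simple 4) (posNot chevE6 (DataE6.fd.simple 4)) = true := by
  decide +kernel
theorem n4 : listOKb DataE6.fd (BsE6.Bs.getD 4 0) (DataE6.fd.simple 4)
    ((posNot chevE6 (DataE6.fd.simple 2)).map (wW BsE6.Bs w0E6)) = true := by decide +kernel
theorem c4 : coverb DataE6.fd (DataE6.fd.simple 4)
    ((posNot chevE6 (DataE6.fd.simple 2)).map (wW BsE6.Bs w0E6)) = true := by decide +kernel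
theorem m4 : pmOKb DataE6.fd (BsE6.Bs.getD 4 0) (DataE6.fd.simple 4) 3 69 = true := by decide +kernel

theorem f5 : factsb DataE6.fd (BsE6.Bs.getD 5 0) (DataE6.fd.simple 5) = true := by decide +kernel
theorem p5 : listOKb DataE6.fd (BsE6.Bs.getD 5 0) (DataE6.fd.simple 5) (posNot chevE6 (DataE6.fd.simple 5)) = true := by
  decide +kernel
theorem n5 : listOKb DataE6.fd (BsE6.Bs.getD 5 0) (DataE6.fd.simple 5)
    ((posNot chevE6 (DataE6.fd.simple 0)).map (wW BsE6.Bs w0E6)) = true := by decide +kernel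
theorem c5 : coverb DataE6.fd (DataE6.fd.simple 5)
    ((posNot chevE6 (DataE6.fd.simple 0)).map (wW BsE6.Bs w0E6)) = true := by decide +kernel
theorem m5 : pmOKb DataE6.fd (BsE6.Bs.getD 5 0) (DataE6.fd.simple 5) 4 68 = true := by decide +kernel

theorem mem : chevE6 ∈ [chevG2, chevB2, chevD4, chevF4, chevE6, chevE7, chevE8] := by simp

theorem facts {K : Type*} [Field K] (hadd : AllAdd K chevE6) (i : ℕ) (hi : i < chevE6.rank) :
    SFacts K chevE6 hadd (BsE6.Bs.getD i 0) (chevE6.simple i) := by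
  have hi' : i < 6 := hi
  interval_cases i
  · exact sfacts_of_checks mem DataE6.agrees hadd BsE6.Bs HsE6.reflBs' w0E6 w0E6_lt 0 5 16 66
      hi f0 p0 n0 c0 m0
  · exact sfacts_of_checks mem DataE6.agrees hadd BsE6.Bs HsE6.reflBs' w0E6 w0E6_lt 1 1 1 71
      hi f1 p1 n1 c1 m1
  · exact sfacts_of_checks mem DataE6.agrees hadd BsE6.Bs HsE6.reflBs' w0E6 w0E6_lt 2 4 5 69
      hi f2 p2 n2 c2 m2
  · exact sfacts_of_checks mem DataE6.agrees hadd BsE6.Bs HsE6.reflBs' w0E6 w0E6_lt 3 3 2 70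
      hi f3 p3 n3 c3 m3
  · exact sfacts_of_checks mem DataE6.agrees hadd BsE6.Bs HsE6.reflBs' w0E6 w0E6_lt 4 2 3 69
      hi f4 p4 n4 c4 m4
  · exact sfacts_of_checks mem DataE6.agrees hadd BsE6.Bs HsE6.reflBs' w0E6 w0E6_lt 5 0 4 68
      hi f5 p5 n5 c5 m5

end Cfsg.Agent.Lib.Helper5.St.CkE6
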