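import Cfsg.Agent.Lib.Helper5.St.GConj
import Cfsg.Agent.Lib.Helper5.Chev.W0All
import Cfsg.Agent.Lib.Helper5.Chev.HsE7
import Mathlib

/-!
# The checks on the fundamental roots for the presentation, type E7, part 2 (helper5)
-/

set_option autoImplicit false
set_option maxRecDepth 1000000

namespace Cfsg.Agent.Lib.Helper5.St.CkE7

open Cfsg.Lie Cfsg.Agent.Lib.Helper5.Chev Cfsg.Agent.Lib.Helper5.Tw Cfsg.Agent.Lib.Helper5.St

theorem f4 : factsb DataE7.fd (BsE7.Bs.getD 4 0) (DataE7.fd.simple 4) = true := by decide +kernel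
theorem p4 : listOKb DataE7.fd (BsE7.Bs.getD 4 0) (DataE7.fd.simple 4) (posNot chevE7 (DataE7.fd.simple 4)) = true := by
  decide +kernel
theorem n4 : listOKb DataE7.fd (BsE7.Bs.getD 4 0) (DataE7.fd.simple 4)
    ((posNot chevE7 (DataE7.fd.simple 4)).map (wW BsE7.Bs w0E7)) = true := by decide +kernel
theorem c4 : coverb DataE7.fd (DataE7.fd.simple 4)
    ((posNot chevE7 (DataE7.fd.simple 4)).map (wW BsE7.Bs w0E7)) = true := by decide +kernel
theorem m4 : pmOKb DataE7.fd (BsE7.Bs.getD 4 0) (DataE7.fd.simple 4) 4 122 = true := by decide +kernel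

theorem f5 : factsb DataE7.fd (BsE7.Bs.getD 5 0) (DataE7.fd.simple 5) = true := by decide +kernel
theorem p5 : listOKb DataE7.fd (BsE7.Bs.getD 5 0) (DataE7.fd.simple 5) (posNot chevE7 (DataE7.fd.simple 5)) = true := by
  decide +kernel
theorem n5 : listOKb DataE7.fd (BsE7.Bs.getD 5 0) (DataE7.fd.simple 5)
    ((posNot chevE7 (DataE7.fd.simple 5)).map (wW BsE7.Bs w0E7)) = true := by decide +kernel
theorem c5 : coverb DataE7.fd (DataE7.fd.simple 5)
    ((posNot chevE7 (DataE7.fd.simple 5)).map (wW BsE7.Bs w0E7)) = true := by decide +kernel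
theorem m5 : pmOKb DataE7.fd (BsE7.Bs.getD 5 0) (DataE7.fd.simple 5) 5 121 = true := by decide +kernel

theorem f6 : factsb DataE7.fd (BsE7.Bs.getD 6 0) (DataE7.fd.simple 6) = true := by decide +kernel
theorem p6 : listOKb DataE7.fd (BsE7.Bs.getD 6 0) (DataE7.fd.simple 6) (posNot chevE7 (DataE7.fd.simple 6)) = true := by
  decide +kernel
theorem n6 : listOKb DataE7.fd (BsE7.Bs.getD 6 0) (DataE7.fd.simple 6)
    ((posNot chevE7 (DataE7.fd.simple 6)).map (wW BsE7.Bs w0E7)) = true := by decide +kernel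
theorem c6 : coverb DataE7.fd (DataE7.fd.simple 6)
    ((posNot chevE7 (DataE7.fd.simple 6)).map (wW BsE7.Bs w0E7)) = true := by decide +kernel
theorem m6 : pmOKb DataE7.fd (BsE7.Bs.getD 6 0) (DataE7.fd.simple 6) 6 120 = true := by decide +kernel

end Cfsg.Agent.Lib.Helper5.St.CkE7
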