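import Cfsg.Agent.Lib.Helper5.St.CkE7a
import Cfsg.Agent.Lib.Helper5.St.CkE7b
import Mathlib

/-!
# The facts on the fundamental roots for the presentation, type E7 (helper5)
-/

set_option autoImplicit false

namespace Cfsg.Agent.Lib.Helper5.St.CkE7

open Cfsg.Lie Cfsg.Agent.Lib.Helper5.Chev Cfsg.Agent.Lib.Helper5.Tw Cfsg.Agent.Lib.Helper5.St

theorem mem : chevE7 ∈ [chevG2, chevB2, chevD4, chevF4, chevE6, chevE7, chevE8] := by simp

theorem facts {K : Type*} [Field K] (hadd : AllAdd K chevE7) (i : ℕ) (hi : i < chevE7.rank) :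
    SFacts K chevE7 hadd (BsE7.Bs.getD i 0) (chevE7.simple i) := by
  have hi' : i < 7 := hi
  interval_cases i
  · exact sfacts_of_checks mem DataE7.agrees hadd BsE7.Bs HsE7.reflBs' w0E7 w0E7_lt 0 0 1 125
      hi f0 p0 n0 c0 m0
  · exact sfacts_of_checks mem DataE7.agrees hadd BsE7.Bs HsE7.reflBs' w0E7 w0E7_lt 1 1 7 122
      hi f1 p1 n1 c1 m1
  · exact sfacts_of_checks mem DataE7.agrees hadd BsE7.Bs HsE7.reflBs' w0E7 w0E7_lt 2 2 2 124
      hi f2 p2 n2 c2 m2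
  · exact sfacts_of_checks mem DataE7.agrees hadd BsE7.Bs HsE7.reflBs' w0E7 w0E7_lt 3 3 3 123
      hi f3 p3 n3 c3 m3
  · exact sfacts_of_checks mem DataE7.agrees hadd BsE7.Bs HsE7.reflBs' w0E7 w0E7_lt 4 4 4 122
      hi f4 p4 n4 c4 m4
  · exact sfacts_of_checks mem DataE7.agrees hadd BsE7.Bs HsE7.reflBs' w0E7 w0E7_lt 5 5 5 121
      hi f5 p5 n5 c5 m5
  · exact sfacts_of_checks mem DataE7.agrees hadd BsE7.Bs HsE7.reflBs' w0E7 w0E7_lt 6 6 6 120
      hi f6 p6 n6 c6 m6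

end Cfsg.Agent.Lib.Helper5.St.CkE7
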