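import Cfsg.Agent.Lib.Helper5.St.GConj
import Cfsg.Agent.Lib.Helper5.Chev.W0All
import Cfsg.Agent.Lib.Helper5.Chev.HsE8
import Mathlib

/-!
# The checks on the fundamental roots for the presentation, type E8, part 3 (helper5)
-/

set_option autoImplicit false
set_option maxRecDepth 1000000

namespace Cfsg.Agent.Lib.Helper5.St.CkE8

open Cfsg.Lie Cfsg.Agent.Lib.Helper5.Chev Cfsg.Agent.Lib.Helper5.Tw Cfsg.Agent.Lib.Helper5.St

theorem f4 : factsb DataE8.fd (BsE8.Bs.getD 4 0) (DataE8.fd.simple 4) = true := by decide +kernel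
theorem p4 : listOKb DataE8.fd (BsE8.Bs.getD 4 0) (DataE8.fd.simple 4) (posNot chevE8 (DataE8.fd.simple 4)) = true := by
  decide +kernel
theorem n4 : listOKb DataE8.fd (BsE8.Bs.getD 4 0) (DataE8.fd.simple 4)
    ((posNot chevE8 (DataE8.fd.simple 4)).map (wW BsE8.Bs w0E8)) = true := by decide +kernel
theorem c4 : coverb DataE8.fd (DataE8.fd.simple 4)
    ((posNot chevE8 (DataE8.fd.simple 4)).map (wW BsE8.Bs w0E8)) = true := by decide +kernel
theorem m4 : pmOKb DataE8.fd (BsE8.Bs.getD 4 0) (DataE8.fd.simple 4) 4 236 = true := by decide +kernel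

theorem f5 : factsb DataE8.fd (BsE8.Bs.getD 5 0) (DataE8.fd.simple 5) = true := by decide +kernel
theorem p5 : listOKb DataE8.fd (BsE8.Bs.getD 5 0) (DataE8.fd.simple 5) (posNot chevE8 (DataE8.fd.simple 5)) = true := by
  decide +kernel
theorem n5 : listOKb DataE8.fd (BsE8.Bs.getD 5 0) (DataE8.fd.simple 5)
    ((posNot chevE8 (DataE8.fd.simple 5)).map (wW BsE8.Bs w0E8)) = true := by decide +kernel
theorem c5 : coverb DataE8.fd (DataE8.fd.simple 5)
    ((posNot chevE8 (DataE8.fd.simple 5)).map (wW BsE8.Bs w0E8)) = true := by decide +kernel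
theorem m5 : pmOKb DataE8.fd (BsE8.Bs.getD 5 0) (DataE8.fd.simple 5) 3 237 = true := by decide +kernel

end Cfsg.Agent.Lib.Helper5.St.CkE8
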