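import Cfsg.Agent.Lib.Helper5.St.GConj
import Cfsg.Agent.Lib.Helper5.Chev.W0All
import Cfsg.Agent.Lib.Helper5.Chev.HsE8
import Mathlib

/-!
# The checks on the fundamental roots for the presentation, type E8, part 4 (helper5)
-/

set_option autoImplicit false
set_option maxRecDepth 1000000

namespace Cfsg.Agent.Lib.Helper5.St.CkE8

open Cfsg.Lie Cfsg.Agent.Lib.Helper5.Chev Cfsg.Agent.Lib.Helper5.Tw Cfsg.Agent.Lib.Helper5.St

theorem f6 : factsb DataE8.fd (BsE8.Bs.getD 6 0) (DataE8.fd.simple 6) = true := by decide +kernel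
theorem p6 : listOKb DataE8.fd (BsE8.Bs.getD 6 0) (DataE8.fd.simple 6) (posNot chevE8 (DataE8.fd.simple 6)) = true := by
  decide +kernel
theorem n6 : listOKb DataE8.fd (BsE8.Bs.getD 6 0) (DataE8.fd.simple 6)
    ((posNot chevE8 (DataE8.fd.simple 6)).map (wW BsE8.Bs w0E8)) = true := by decide +kernel
theorem c6 : coverb DataE8.fd (DataE8.fd.simple 6)
    ((posNot chevE8 (DataE8.fd.simple 6)).map (wW BsE8.Bs w0E8)) = true := by decide +kernel
theorem m6 : pmOKb DataE8.fd (BsE8.Bs.getD 6 0) (DataE8.fd.simple 6) 2 238 = true := by decide +kernel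

theorem f7 : factsb DataE8.fd (BsE8.Bs.getD 7 0) (DataE8.fd.simple 7) = true := by decide +kernel
theorem p7 : listOKb DataE8.fd (BsE8.Bs.getD 7 0) (DataE8.fd.simple 7) (posNot chevE8 (DataE8.fd.simple 7)) = true := by
  decide +kernel
theorem n7 : listOKb DataE8.fd (BsE8.Bs.getD 7 0) (DataE8.fd.simple 7)
    ((posNot chevE8 (DataE8.fd.simple 7)).map (wW BsE8.Bs w0E8)) = true := by decide +kernel
theorem c7 : coverb DataE8.fd (DataE8.fd.simple 7)
    ((posNot chevE8 (DataE8.fd.simple 7)).map (wW BsE8.Bs w0E8)) = true := by decide +kernel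
theorem m7 : pmOKb DataE8.fd (BsE8.Bs.getD 7 0) (DataE8.fd.simple 7) 1 239 = true := by decide +kernel

end Cfsg.Agent.Lib.Helper5.St.CkE8
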