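import Cfsg.Agent.Lib.Helper5.St.CkE8a
import Cfsg.Agent.Lib.Helper5.St.CkE8b
import Cfsg.Agent.Lib.Helper5.St.CkE8c
import Cfsg.Agent.Lib.Helper5.St.CkE8d
import Mathlib

/-!
# The facts on the fundamental roots for the presentation, type E8 (helper5)
-/

set_option autoImplicit false

namespace Cfsg.Agent.Lib.Helper5.St.CkE8

open Cfsg.Lie Cfsg.Agent.Lib.Helper5.Chev Cfsg.Agent.Lib.Helper5.Tw Cfsg.Agent.Lib.Helper5.St

theorem mem : chevE8 ∈ [chevG2, chevB2, chevD4, chevF4, chevE6, chevE7, chevE8] := by simp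

theorem facts {K : Type*} [Field K] (hadd : AllAdd K chevE8) (i : ℕ) (hi : i < chevE8.rank) :
    SFacts K chevE8 hadd (BsE8.Bs.getD i 0) (chevE8.simple i) := by
  have hi' : i < 8 := hi
  interval_cases i
  · exact sfacts_of_checks mem DataE8.agrees hadd BsE8.Bs HsE8.reflBs' w0E8 w0E8_lt 0 0 14 233
      hi f0 p0 n0 c0 m0
  · exact sfacts_of_checks mem DataE8.agrees hadd BsE8.Bs HsE8.reflBs' w0E8 w0E8_lt 1 1 7 234
      hi f1 p1 n1 c1 m1
  · exact sfacts_of_checks mem DataE8.agrees hadd BsE8.Bs HsE8.reflBs' w0E8 w0E8_lt 2 2 6 234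
      hi f2 p2 n2 c2 m2
  · exact sfacts_of_checks mem DataE8.agrees hadd BsE8.Bs HsE8.reflBs' w0E8 w0E8_lt 3 3 5 235
      hi f3 p3 n3 c3 m3
  · exact sfacts_of_checks mem DataE8.agrees hadd BsE8.Bs HsE8.reflBs' w0E8 w0E8_lt 4 4 4 236
      hi f4 p4 n4 c4 m4
  · exact sfacts_of_checks mem DataE8.agrees hadd BsE8.Bs HsE8.reflBs' w0E8 w0E8_lt 5 5 3 237
      hi f5 p5 n5 c5 m5
  · exact sfacts_of_checks mem DataE8.agrees hadd BsE8.Bs HsE8.reflBs' w0E8 w0E8_lt 6 6 2 238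
      hi f6 p6 n6 c6 m6
  · exact sfacts_of_checks mem DataE8.agrees hadd BsE8.Bs HsE8.reflBs' w0E8 w0E8_lt 7 7 1 239
      hi f7 p7 n7 c7 m7

end Cfsg.Agent.Lib.Helper5.St.CkE8
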