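import Cfsg.Agent.Lib.Helper5.St.GConj
import Cfsg.Agent.Lib.Helper5.Chev.W0All
import Cfsg.Agent.Lib.Helper5.Chev.HsF4
import Mathlib

/-!
# The checks on the fundamental roots for the presentation, type F4 (helper5)
-/

set_option autoImplicit false
set_option maxRecDepth 1000000

namespace Cfsg.Agent.Lib.Helper5.St.CkF4

open Cfsg.Lie Cfsg.Agent.Lib.Helper5.Chev Cfsg.Agent.Lib.Helper5.Tw Cfsg.Agent.Lib.Helper5.St

theorem good : goodb DataF4.fd (posL chevF4) = true := by decide +kernel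

theorem f0 : factsb DataF4.fd (BsF4.Bs.getD 0 0) (DataF4.fd.simple 0) = true := by decide +kernel
theorem p0 : listOKb DataF4.fd (BsF4.Bs.getD 0 0) (DataF4.fd.simple 0) (posNot chevF4 (DataF4.fd.simple 0)) = true := by
  decide +kernel
theorem n0 : listOKb DataF4.fd (BsF4.Bs.getD 0 0) (DataF4.fd.simple 0)
    ((posNot chevF4 (DataF4.fd.simple 0)).map (wW BsF4.Bs w0F4)) = true := by decide +kernel
theorem c0 : coverb DataF4.fd (DataF4.fd.simple 0)
    ((posNot chevF4 (DataF4.fd.simple 0)).map (wW BsF4.Bs w0F4)) = true := by decide +kernel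
theorem m0 : pmOKb DataF4.fd (BsF4.Bs.getD 0 0) (DataF4.fd.simple 0) 7 44 = true := by decide +kernel

theorem f1 : factsb DataF4.fd (BsF4.Bs.getD 1 0) (DataF4.fd.simple 1) = true := by decide +kernel
theorem p1 : listOKb DataF4.fd (BsF4.Bs.getD 1 0) (DataF4.fd.simple 1) (posNot chevF4 (DataF4.fd.simple 1)) = true := by
  decide +kernel
theorem n1 : listOKb DataF4.fd (BsF4.Bs.getD 1 0) (DataF4.fd.simple 1)
    ((posNot chevF4 (DataF4.fd.simple 1)).map (wW BsF4.Bs w0F4)) = true := by decide +kernel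
theorem c1 : coverb DataF4.fd (DataF4.fd.simple 1)
    ((posNot chevF4 (DataF4.fd.simple 1)).map (wW BsF4.Bs w0F4)) = true := by decide +kernel
theorem m1 : pmOKb DataF4.fd (BsF4.Bs.getD 1 0) (DataF4.fd.simple 1) 4 44 = true := by decide +kernel

theorem f2 : factsb DataF4.fd (BsF4.Bs.getD 2 0) (DataF4.fd.simple 2) = true := by decide +kernel
theorem p2 : listOKb DataF4.fd (BsF4.Bs.getD 2 0) (DataF4.fd.simple 2) (posNot chevF4 (DataF4.fd.simple 2)) = true := by
  decide +kernel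
theorem n2 : listOKb DataF4.fd (BsF4.Bs.getD 2 0) (DataF4.fd.simple 2)
    ((posNot chevF4 (DataF4.fd.simple 2)).map (wW BsF4.Bs w0F4)) = true := by decide +kernel
theorem c2 : coverb DataF4.fd (DataF4.fd.simple 2)
    ((posNot chevF4 (DataF4.fd.simple 2)).map (wW BsF4.Bs w0F4)) = true := by decide +kernel
theorem m2 : pmOKb DataF4.fd (BsF4.Bs.getD 2 0) (DataF4.fd.simple 2) 2 46 = true := by decide +kernel

theorem f3 : factsb DataF4.fd (BsF4.Bs.getD 3 0) (DataF4.fd.simple 3) = true := by decide +kernel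
theorem p3 : listOKb DataF4.fd (BsF4.Bs.getD 3 0) (DataF4.fd.simple 3) (posNot chevF4 (DataF4.fd.simple 3)) = true := by
  decide +kernel
theorem n3 : listOKb DataF4.fd (BsF4.Bs.getD 3 0) (DataF4.fd.simple 3)
    ((posNot chevF4 (DataF4.fd.simple 3)).map (wW BsF4.Bs w0F4)) = true := by decide +kernel
theorem c3 : coverb DataF4.fd (DataF4.fd.simple 3)
    ((posNot chevF4 (DataF4.fd.simple 3)).map (wW BsF4.Bs w0F4)) = true := by decide +kernel
theorem m3 : pmOKb DataF4.fd (BsF4.Bs.getD 3 0) (DataF4.fd.simple 3) 1 47 = true := by decide +kernel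

theorem mem : chevF4 ∈ [chevG2, chevB2, chevD4, chevF4, chevE6, chevE7, chevE8] := by simp

theorem facts {K : Type*} [Field K] (hadd : AllAdd K chevF4) (i : ℕ) (hi : i < chevF4.rank) :
    SFacts K chevF4 hadd (BsF4.Bs.getD i 0) (chevF4.simple i) := by
  have hi' : i < 4 := hi
  interval_cases i
  · exact sfacts_of_checks mem DataF4.agrees hadd BsF4.Bs HsF4.reflBs' w0F4 w0F4_lt 0 0 7 44
      hi f0 p0 n0 c0 m0
  · exact sfacts_of_checks mem DataF4.agrees hadd BsF4.Bs HsF4.reflBs' w0F4 w0F4_lt 1 1 4 44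
      hi f1 p1 n1 c1 m1
  · exact sfacts_of_checks mem DataF4.agrees hadd BsF4.Bs HsF4.reflBs' w0F4 w0F4_lt 2 2 2 46
      hi f2 p2 n2 c2 m2
  · exact sfacts_of_checks mem DataF4.agrees hadd BsF4.Bs HsF4.reflBs' w0F4 w0F4_lt 3 3 1 47
      hi f3 p3 n3 c3 m3

end Cfsg.Agent.Lib.Helper5.St.CkF4
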