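import Cfsg.Agent.Lib.Helper5.St.GConj
import Cfsg.Agent.Lib.Helper5.Chev.W0All
import Cfsg.Agent.Lib.Helper5.Chev.HsG2
import Mathlib

/-!
# The checks on the fundamental roots for the presentation, type G2 (helper5)
-/

set_option autoImplicit false
set_option maxRecDepth 1000000

namespace Cfsg.Agent.Lib.Helper5.St.CkG2

open Cfsg.Lie Cfsg.Agent.Lib.Helper5.Chev Cfsg.Agent.Lib.Helper5.Tw Cfsg.Agent.Lib.Helper5.St

theorem good : goodb DataG2.fd (posL chevG2) = true := by decide +kernel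

theorem f0 : factsb DataG2.fd (BsG2.Bs.getD 0 0) (DataG2.fd.simple 0) = true := by decide +kernel
theorem p0 : listOKb DataG2.fd (BsG2.Bs.getD 0 0) (DataG2.fd.simple 0) (posNot chevG2 (DataG2.fd.simple 0)) = true := by
  decide +kernel
theorem n0 : listOKb DataG2.fd (BsG2.Bs.getD 0 0) (DataG2.fd.simple 0)
    ((posNot chevG2 (DataG2.fd.simple 0)).map (wW BsG2.Bs w0G2)) = true := by decide +kernel
theorem c0 : coverb DataG2.fd (DataG2.fd.simple 0)
    ((posNot chevG2 (DataG2.fd.simple 0)).map (wW BsG2.Bs w0G2)) = true := by decide +kernel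
theorem m0 : pmOKb DataG2.fd (BsG2.Bs.getD 0 0) (DataG2.fd.simple 0) 5 8 = true := by decide +kernel

theorem f1 : factsb DataG2.fd (BsG2.Bs.getD 1 0) (DataG2.fd.simple 1) = true := by decide +kernel
theorem p1 : listOKb DataG2.fd (BsG2.Bs.getD 1 0) (DataG2.fd.simple 1) (posNot chevG2 (DataG2.fd.simple 1)) = true := by
  decide +kernel
theorem n1 : listOKb DataG2.fd (BsG2.Bs.getD 1 0) (DataG2.fd.simple 1)
    ((posNot chevG2 (DataG2.fd.simple 1)).map (wW BsG2.Bs w0G2)) = true := by decide +kernel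
theorem c1 : coverb DataG2.fd (DataG2.fd.simple 1)
    ((posNot chevG2 (DataG2.fd.simple 1)).map (wW BsG2.Bs w0G2)) = true := by decide +kernel
theorem m1 : pmOKb DataG2.fd (BsG2.Bs.getD 1 0) (DataG2.fd.simple 1) 1 11 = true := by decide +kernel

theorem mem : chevG2 ∈ [chevG2, chevB2, chevD4, chevF4, chevE6, chevE7, chevE8] := by simp

theorem facts {K : Type*} [Field K] (hadd : AllAdd K chevG2) (i : ℕ) (hi : i < chevG2.rank) :
    SFacts K chevG2 hadd (BsG2.Bs.getD i 0) (chevG2.simple i) := by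
  have hi' : i < 2 := hi
  interval_cases i
  · exact sfacts_of_checks mem DataG2.agrees hadd BsG2.Bs HsG2.reflBs' w0G2 w0G2_lt 0 0 5 8
      hi f0 p0 n0 c0 m0
  · exact sfacts_of_checks mem DataG2.agrees hadd BsG2.Bs HsG2.reflBs' w0G2 w0G2_lt 1 1 1 11
      hi f1 p1 n1 c1 m1

end Cfsg.Agent.Lib.Helper5.St.CkG2
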