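import Cfsg.Agent.Lib.Helper5.St.RData
import Mathlib

/-!
# The presented groups of Steinberg as groups with root elements (helper5)
-/

set_option autoImplicit false

namespace Cfsg.Agent.Lib.Helper5.St

open Cfsg.Lie Cfsg.Agent.Lib.Helper5.Chev Cfsg.Agent.Lib.Helper5.Tw

variable {K : Type*} [Field K] {D : ChevalleyDatum}

/-- the relators (R1) -/
def relsA (K : Type*) [Field K] (D : ChevalleyDatum) : Set (FreeGroup (Fin D.nroots × K)) :=
  {g | ∃ (r : ℕ) (t₁ t₂ : K), r < D.nroots ∧ g = D.stX r t₁ * D.stX r t₂ * (D.stX r (t₁ + t₂))⁻¹}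

/-- the relators (R2) -/
def relsB (K : Type*) [Field K] (D : ChevalleyDatum) : Set (FreeGroup (Fin D.nroots × K)) :=
  {g | ∃ (r s : ℕ) (t u : K), r < D.nroots ∧ s < D.nroots ∧ s ≠ r ∧ s ≠ D.neg r ∧
      g = (D.stX s u)⁻¹ * (D.stX r t)⁻¹ * D.stX s u * D.stX r t * (D.stWord (D.commWord K r s t u))⁻¹}

/-- the relators (R3) -/
def relsC (K : Type*) [Field K] (D : ChevalleyDatum) : Set (FreeGroup (Fin D.nroots × K)) :=
  {g | ∃ (r : ℕ) (t₁ t₂ : K), r < D.nroots ∧ t₁ ≠ 0 ∧ t₂ ≠ 0 ∧
      g = D.stH r t₁ * D.stH r t₂ * (D.stH r (t₁ * t₂))⁻¹}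

theorem steinbergRels_eq : D.steinbergRels K = relsA K D ∪ relsB K D ∪ relsC K D := rfl

theorem steinbergRelsAB_eq : D.steinbergRelsAB K = relsA K D ∪ relsB K D := rfl

/-- the images of the generators in the matrix group -/
def genMap (hadd : AllAdd K D) : Fin D.nroots × K → GL D.Idx K := fun p => hadd.xU p.1 p.2

theorem lift_stX (hadd : AllAdd K D) (r : ℕ) (t : K) :
    FreeGroup.lift (genMap hadd) (D.stX r t) = hadd.xU r t := by
  unfold ChevalleyDatum.stX
  by_cases h : r < D.nroots
  · rw [dif_pos h, FreeGroup.lift_apply_of]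
    rfl
  · rw [dif_neg h, map_one]
    apply Units.ext
    exact (x_out r h t).symm

theorem lift_stWord (hadd : AllAdd K D) (w : List (ℕ × K)) :
    FreeGroup.lift (genMap hadd) (D.stWord w) = hadd.wordU w := by
  unfold ChevalleyDatum.stWord AllAdd.wordU
  rw [map_list_prod, List.map_map]
  congr 1
  apply List.map_congr_left
  intro p _
  exact lift_stX hadd p.1 p.2

theorem lift_relsA (hadd : AllAdd K D) : ∀ g ∈ relsA K D, FreeGroup.lift (genMap hadd) g = 1 := by
  rintro g ⟨r, t₁, t₂, _, rfl⟩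
  rw [map_mul, map_mul, map_inv, lift_stX, lift_stX, lift_stX, mul_inv_eq_one]
  apply Units.ext
  rw [Units.val_mul]
  exact hadd.x_add r t₁ t₂

theorem lift_relsB (hD : D ∈ [chevG2, chevB2, chevD4, chevF4, chevE6, chevE7, chevE8])
    (hadd : AllAdd K D) : ∀ g ∈ relsB K D, FreeGroup.lift (genMap hadd) g = 1 := by
  rintro g ⟨r, s, t, u, hr, hs, h1, h2, rfl⟩
  simp only [map_mul, map_inv, lift_stX, lift_stWord]
  have h := comm_formula (F := K) D hD r s hr hs h1 h2 t u
  have h' : hadd.xU s u * hadd.xU r t = hadd.xU r t * hadd.xU s u * hadd.wordU (D.commWord K r s t u) := by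
    apply Units.ext
    rw [Units.val_mul, Units.val_mul, Units.val_mul, hadd.wordU_val]
    exact h
  rw [mul_inv_eq_one, mul_assoc, mul_assoc, inv_mul_eq_iff_eq_mul, inv_mul_eq_iff_eq_mul,
    ← mul_assoc]
  exact h'

theorem lift_stH (hadd : AllAdd K D) (r : ℕ) (t : K) :
    ((FreeGroup.lift (genMap hadd) (D.stH r t) : GL D.Idx K) : Matrix D.Idx D.Idx K) = D.hMat K r t := by
  unfold ChevalleyDatum.stH
  rw [lift_stWord, hadd.wordU_val]
  rfl

theorem lift_relsC (hD : D ∈ [chevG2, chevB2, chevD4, chevF4, chevE6, chevE7, chevE8])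
    (hadd : AllAdd K D) : ∀ g ∈ relsC K D, FreeGroup.lift (genMap hadd) g = 1 := by
  rintro g ⟨r, t₁, t₂, hr, h1, h2, rfl⟩
  rw [map_mul, map_mul, map_inv, mul_inv_eq_one]
  apply Units.ext
  rw [Units.val_mul, lift_stH, lift_stH, lift_stH]
  exact (hform_all' (F := K) D hD r hr).mul t₁ t₂ h1 h2

/-- a presented group whose relators contain (R1) and (R2) and hold in the matrix group, as a
group with root elements -/
noncomputable def mkRData (hD : D ∈ [chevG2, chevB2, chevD4, chevF4, chevE6, chevE7, chevE8])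
    (rels : Set (FreeGroup (Fin D.nroots × K))) (hA : relsA K D ⊆ rels) (hB : relsB K D ⊆ rels)
    (hrel : ∀ g ∈ rels, FreeGroup.lift (genMap (allAdd_all (F := K) D hD)) g = 1) :
    RData K D (PresentedGroup rels) where
  hD := hD
  X := fun r t => PresentedGroup.mk rels (D.stX r t)
  add := by
    intro r hr t u
    have h : D.stX r t * D.stX r u * (D.stX r (t + u))⁻¹ ∈ rels := hA ⟨r, t, u, hr, rfl⟩
    have := (PresentedGroup.one_of_mem (rels := rels) h)
    rw [map_mul, map_mul, map_inv, mul_inv_eq_one] at this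
    exact this
  comm := by
    intro r hr s hs h1 h2 t u
    have h : (D.stX s u)⁻¹ * (D.stX r t)⁻¹ * D.stX s u * D.stX r t *
        (D.stWord (D.commWord K r s t u))⁻¹ ∈ rels := hB ⟨r, s, t, u, hr, hs, h1, h2, rfl⟩
    have := (PresentedGroup.one_of_mem (rels := rels) h)
    simp only [map_mul, map_inv] at this
    rw [mul_inv_eq_one, mul_assoc, mul_assoc, inv_mul_eq_iff_eq_mul, inv_mul_eq_iff_eq_mul,
      ← mul_assoc] at this
    rw [this]
    congr 1
    unfold ChevalleyDatum.stWord wordG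
    rw [map_list_prod, List.map_map]
    rfl
  gen := by
    rw [eq_top_iff, ← PresentedGroup.closure_range_of rels]
    apply Subgroup.closure_mono
    rintro g ⟨⟨r, t⟩, rfl⟩
    refine ⟨r.1, r.2, t, ?_⟩
    unfold ChevalleyDatum.stX
    rw [dif_pos r.2]
    rfl
  θ := PresentedGroup.toGroup (f := genMap (allAdd_all (F := K) D hD)) hrel
  hθ := by
    intro r hr t
    show PresentedGroup.toGroup hrel (PresentedGroup.mk rels (D.stX r t)) = _
    unfold ChevalleyDatum.stX
    rw [dif_pos hr]
    exact PresentedGroup.toGroup.of hrel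

/-- the group presented by (R1), (R2), (R3) -/
noncomputable def steinbergRData (hD : D ∈ [chevG2, chevB2, chevD4, chevF4, chevE6, chevE7, chevE8]) :
    RData K D (D.SteinbergGroup K) :=
  mkRData hD (D.steinbergRels K)
    (by rw [steinbergRels_eq]; exact fun g hg => Or.inl (Or.inl hg))
    (by rw [steinbergRels_eq]; exact fun g hg => Or.inl (Or.inr hg))
    (by
      rw [steinbergRels_eq]
      rintro g ((hg | hg) | hg)
      · exact lift_relsA _ g hg
      · exact lift_relsB hD _ g hg
      · exact lift_relsC hD _ g hg)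

/-- the group presented by (R1), (R2) -/
noncomputable def coverRData (hD : D ∈ [chevG2, chevB2, chevD4, chevF4, chevE6, chevE7, chevE8]) :
    RData K D (D.SteinbergCover K) :=
  mkRData hD (D.steinbergRelsAB K)
    (by rw [steinbergRelsAB_eq]; exact fun g hg => Or.inl hg)
    (by rw [steinbergRelsAB_eq]; exact fun g hg => Or.inr hg)
    (by
      rw [steinbergRelsAB_eq]
      rintro g (hg | hg)
      · exact lift_relsA _ g hg
      · exact lift_relsB hD _ g hg)

theorem steinbergRData_X (hD : D ∈ [chevG2, chevB2, chevD4, chevF4, chevE6, chevE7, chevE8])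
    (r : ℕ) (t : K) : (steinbergRData (K := K) hD).X r t = D.stGen K r t := rfl

theorem coverRData_X (hD : D ∈ [chevG2, chevB2, chevD4, chevF4, chevE6, chevE7, chevE8])
    (r : ℕ) (t : K) : (coverRData (K := K) hD).X r t = D.scGen K r t := rfl

end Cfsg.Agent.Lib.Helper5.St
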