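import Cfsg.Agent.Lib.Helper5.St.Center
import Cfsg.Agent.Lib.Helper5.St.Inst
import Cfsg.Agent.Lib.Helper5.St.CkG2
import Cfsg.Agent.Lib.Helper5.St.CkB2
import Cfsg.Agent.Lib.Helper5.St.CkD4
import Cfsg.Agent.Lib.Helper5.St.CkF4
import Cfsg.Agent.Lib.Helper5.St.CkE6
import Cfsg.Agent.Lib.Helper5.St.CkE7
import Cfsg.Agent.Lib.Helper5.St.CkE8
import Mathlib

/-!
# Steinberg's theorem on the group presented by the relations (R1), (R2) (helper5)
-/

set_option autoImplicit false

namespace Cfsg.Agent.Lib.Helper5.St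

open Cfsg.Lie Cfsg.Agent.Lib.Helper5.Chev Cfsg.Agent.Lib.Helper5.Tw
open scoped Matrix

/-- the data with all the checks for each of the seven types -/
theorem stCtx_known (K : Type*) [Field K] (D : ChevalleyDatum)
    (hD : D ∈ [chevG2, chevB2, chevD4, chevF4, chevE6, chevE7, chevE8]) :
    ∃ (T : FD) (Bs : List ℕ) (gH : ℕ) (baseH : List ℕ) (fuel : ℕ),
      StCtx K D T Bs gH baseH fuel := by
  have hD' := hD
  simp only [List.mem_cons, List.not_mem_nil, or_false] at hD'
  rcases hD' with rfl | rfl | rfl | rfl | rfl | rfl | rfl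
  · exact ⟨_, _, _, _, _, ⟨hD, DataG2.agrees, HsG2.reflBs', HsG2.rbH, HsG2.base_simple,
      goodL_of_check DataG2.agrees _ CkG2.good, fun hadd i hi => CkG2.facts hadd i hi⟩⟩
  · exact ⟨_, _, _, _, _, ⟨hD, DataB2.agrees, HsB2.reflBs', HsB2.rbH, HsB2.base_simple,
      goodL_of_check DataB2.agrees _ CkB2.good, fun hadd i hi => CkB2.facts hadd i hi⟩⟩
  · exact ⟨_, _, _, _, _, ⟨hD, DataD4.agrees, HsD4.reflBs', HsD4.rbH, HsD4.base_simple,
      goodL_of_check DataD4.agrees _ CkD4.good, fun hadd i hi => CkD4.facts hadd i hi⟩⟩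
  · exact ⟨_, _, _, _, _, ⟨hD, DataF4.agrees, HsF4.reflBs', HsF4.rbH, HsF4.base_simple,
      goodL_of_check DataF4.agrees _ CkF4.good, fun hadd i hi => CkF4.facts hadd i hi⟩⟩
  · exact ⟨_, _, _, _, _, ⟨hD, DataE6.agrees, HsE6.reflBs', HsE6.rbH, HsE6.base_simple,
      goodL_of_check DataE6.agrees _ CkE6.good, fun hadd i hi => CkE6.facts hadd i hi⟩⟩
  · exact ⟨_, _, _, _, _, ⟨hD, DataE7.agrees, HsE7.reflBs', HsE7.rbH, HsE7.base_simple,
      goodL_of_check DataE7.agrees _ CkE7.good, fun hadd i hi => CkE7.facts hadd i hi⟩⟩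
  · exact ⟨_, _, _, _, _, ⟨hD, DataE8.agrees, HsE8.reflBs', HsE8.rbH, HsE8.base_simple,
      goodL_of_check DataE8.agrees _ CkE8.good, fun hadd i hi => CkE8.facts hadd i hi⟩⟩

namespace RData

variable {K : Type*} [Field K] {D : ChevalleyDatum} {Γ : Type*} [Group Γ] (R : RData K D Γ)

/-- the kernel of the homomorphism onto the Chevalley group is central -/
theorem thetaG_ker_le_center : R.thetaG.ker ≤ Subgroup.center Γ := by
  obtain ⟨T, Bs, gH, baseH, fuel, C⟩ := stCtx_known K D R.hD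
  rw [R.thetaG_ker]
  exact R.ker_le_center C

/-- the kernel of the homomorphism onto the Chevalley group is the centre -/
theorem thetaG_ker_eq_center : R.thetaG.ker = Subgroup.center Γ :=
  le_antisymm R.thetaG_ker_le_center R.center_le_ker

end RData

end Cfsg.Agent.Lib.Helper5.St
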