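import Cfsg.Agent.Lib.Helper5.Tw.Ordered
import Cfsg.Prelude.Def_SteinbergCover
import Mathlib

/-!
# Abstract groups with root elements satisfying Steinberg's relations (R1), (R2) (helper5)
-/

set_option autoImplicit false

namespace Cfsg.Agent.Lib.Helper5.St

open Cfsg.Lie Cfsg.Agent.Lib.Helper5.Chev Cfsg.Agent.Lib.Helper5.Tw

/-- the product of a word of root elements in a group -/
def wordG {K : Type*} {Γ : Type*} [Group Γ] (X : ℕ → K → Γ) (w : List (ℕ × K)) : Γ :=
  (w.map fun p => X p.1 p.2).prod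

theorem wordG_nil {K : Type*} {Γ : Type*} [Group Γ] (X : ℕ → K → Γ) : wordG X [] = 1 := rfl

theorem wordG_cons {K : Type*} {Γ : Type*} [Group Γ] (X : ℕ → K → Γ) (a : ℕ × K)
    (w : List (ℕ × K)) : wordG X (a :: w) = X a.1 a.2 * wordG X w := by
  unfold wordG
  rw [List.map_cons, List.prod_cons]

theorem wordG_append {K : Type*} {Γ : Type*} [Group Γ] (X : ℕ → K → Γ) (w w' : List (ℕ × K)) :
    wordG X (w ++ w') = wordG X w * wordG X w' := by
  unfold wordG
  rw [List.map_append, List.prod_append]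

/-- a group with root elements satisfying (R1) and (R2), generated by them, with a homomorphism
onto the Chevalley group matching the root elements -/
structure RData (K : Type*) [Field K] (D : ChevalleyDatum) (Γ : Type*) [Group Γ] where
  hD : D ∈ [chevG2, chevB2, chevD4, chevF4, chevE6, chevE7, chevE8]
  X : ℕ → K → Γ
  add : ∀ r < D.nroots, ∀ t u : K, X r t * X r u = X r (t + u)
  comm : ∀ r < D.nroots, ∀ s < D.nroots, s ≠ r → s ≠ D.neg r → ∀ t u : K,
    X s u * X r t = X r t * X s u * wordG X (D.commWord K r s t u)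
  gen : Subgroup.closure {g : Γ | ∃ r < D.nroots, ∃ t : K, g = X r t} = ⊤
  θ : Γ →* GL D.Idx K
  hθ : ∀ r < D.nroots, ∀ t : K, θ (X r t) = (allAdd_all (F := K) D hD).xU r t

namespace RData

variable {K : Type*} [Field K] {D : ChevalleyDatum} {Γ : Type*} [Group Γ] (R : RData K D Γ)

theorem hadd (R : RData K D Γ) : AllAdd K D := allAdd_all D R.hD

theorem X_zero (r : ℕ) (hr : r < D.nroots) : R.X r 0 = 1 := by
  have := R.add r hr 0 0
  rw [add_zero] at this
  exact mul_eq_left.1 this

theorem X_inv (r : ℕ) (hr : r < D.nroots) (t : K) : (R.X r t)⁻¹ = R.X r (-t) := by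
  rw [inv_eq_iff_mul_eq_one, R.add r hr, add_neg_cancel, R.X_zero r hr]

theorem X_comm_self (r : ℕ) (hr : r < D.nroots) (t u : K) :
    R.X r t * R.X r u = R.X r u * R.X r t := by
  rw [R.add r hr, R.add r hr, add_comm]

/-- conjugation from the commutator relation -/
theorem conj_of_comm (r s : ℕ) (hr : r < D.nroots) (hs : s < D.nroots) (h1 : s ≠ r)
    (h2 : s ≠ D.neg r) (t u : K) :
    (R.X r t)⁻¹ * R.X s u * R.X r t = R.X s u * wordG R.X (D.commWord K r s t u) := by
  rw [mul_assoc, inv_mul_eq_iff_eq_mul, ← mul_assoc]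
  exact R.comm r hr s hs h1 h2 t u

theorem theta_word (w : List (ℕ × K)) (hw : ∀ p ∈ w, p.1 < D.nroots) :
    R.θ (wordG R.X w) = R.hadd.wordU w := by
  induction w with
  | nil =>
    rw [wordG_nil, map_one]
    rfl
  | cons a w ih =>
    rw [wordG_cons, map_mul, R.hθ a.1 (hw a List.mem_cons_self),
      ih (fun p hp => hw p (List.mem_cons_of_mem _ hp)), wordU_cons]

/-- the generators of the subgroup of a list of roots -/
def genUL (L : List ℕ) : Set Γ := {g | ∃ r ∈ L, ∃ t : K, g = R.X r t}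

/-- the subgroup generated by the root subgroups of a list of roots -/
def UL (L : List ℕ) : Subgroup Γ := Subgroup.closure (R.genUL L)

theorem X_mem_UL (L : List ℕ) (r : ℕ) (hr : r ∈ L) (t : K) : R.X r t ∈ R.UL L :=
  Subgroup.subset_closure ⟨r, hr, t, rfl⟩

theorem UL_mono {L L' : List ℕ} (h : ∀ r ∈ L, r ∈ L') : R.UL L ≤ R.UL L' := by
  apply Subgroup.closure_mono
  rintro g ⟨r, hr, t, hg⟩
  exact ⟨r, h r hr, t, hg⟩

theorem wordG_mem_UL (L : List ℕ) (w : List (ℕ × K)) (h : ∀ p ∈ w, p.1 ∈ L) :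
    wordG R.X w ∈ R.UL L := by
  unfold wordG
  apply Subgroup.list_prod_mem
  intro g hg
  rw [List.mem_map] at hg
  obtain ⟨p, hp, rfl⟩ := hg
  exact R.X_mem_UL L p.1 (h p hp) _

omit R in
theorem commWord_mem (r s : ℕ) (t u : K) (p : ℕ × K) (hp : p ∈ D.commWord K r s t u) :
    ∃ c ∈ D.commTerms r s, p.1 = c.1 := by
  unfold ChevalleyDatum.commWord at hp
  rw [List.mem_map] at hp
  obtain ⟨c, hc, rfl⟩ := hp
  exact ⟨c, hc, rfl⟩

/-- a root element normalises the subgroup of a list closed under the terms of the commutator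
formula with it -/
theorem X_mem_normalizer_UL (r : ℕ) (hr : r < D.nroots) (B : List ℕ)
    (hB : ∀ s ∈ B, s < D.nroots ∧ s ≠ r ∧ s ≠ D.neg r ∧ ∀ c ∈ D.commTerms r s, c.1 ∈ B) (t : K) :
    R.X r t ∈ Subgroup.normalizer (R.UL B : Set Γ) := by
  have key : ∀ (t' : K) (g : Γ), g ∈ R.genUL B → (R.X r t')⁻¹ * g * R.X r t' ∈ R.UL B := by
    rintro t' g ⟨s, hs, u, rfl⟩
    obtain ⟨hslt, hne, hneg, hterms⟩ := hB s hs
    rw [R.conj_of_comm r s hr hslt hne hneg t' u]
    apply Subgroup.mul_mem _ (R.X_mem_UL B s hs u)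
    apply R.wordG_mem_UL
    intro p hp
    obtain ⟨c, hc, e⟩ := commWord_mem r s t' u p hp
    rw [e]
    exact hterms c hc
  have hinv : (R.X r t)⁻¹ = R.X r (-t) := R.X_inv r hr t
  unfold UL
  apply mem_normalizer_closure
  · intro g hg
    have := key (-t) g hg
    rw [← hinv, inv_inv] at this
    exact this
  · intro g hg
    exact key t g hg

theorem UL_nil : R.UL [] = ⊥ := by
  unfold UL
  rw [Subgroup.closure_eq_bot_iff]
  rintro g ⟨r, hr, -⟩
  exact absurd hr List.not_mem_nil

/-- the root subgroup -/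
def XS (r : ℕ) : Subgroup Γ := Subgroup.closure {g | ∃ t : K, g = R.X r t}

theorem mem_XS_iff (r : ℕ) (hr : r < D.nroots) (g : Γ) : g ∈ R.XS r ↔ ∃ t : K, g = R.X r t := by
  constructor
  · intro hg
    induction hg using Subgroup.closure_induction with
    | mem x hx => exact hx
    | one => exact ⟨0, (R.X_zero r hr).symm⟩
    | mul x y _ _ hx hy =>
      obtain ⟨a, rfl⟩ := hx
      obtain ⟨b, rfl⟩ := hy
      exact ⟨a + b, R.add r hr a b⟩
    | inv x _ hx =>
      obtain ⟨a, rfl⟩ := hx
      exact ⟨-a, R.X_inv r hr a⟩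
  · rintro ⟨t, rfl⟩
    exact Subgroup.subset_closure ⟨t, rfl⟩

theorem UL_cons (r : ℕ) (B : List ℕ) : R.UL (r :: B) = R.XS r ⊔ R.UL B := by
  apply le_antisymm
  · unfold UL
    rw [Subgroup.closure_le]
    rintro g ⟨s, hs, t, hg⟩
    rcases List.mem_cons.1 hs with rfl | hs
    · apply Subgroup.mem_sup_left
      exact Subgroup.subset_closure ⟨t, hg⟩
    · apply Subgroup.mem_sup_right
      exact Subgroup.subset_closure ⟨s, hs, t, hg⟩
  · apply sup_le
    · unfold XS UL
      apply Subgroup.closure_mono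
      rintro g ⟨t, hg⟩
      exact ⟨r, List.mem_cons_self, t, hg⟩
    · exact R.UL_mono (fun s hs => List.mem_cons_of_mem _ hs)

theorem XS_le_normalizer_UL (r : ℕ) (B : List ℕ) (hg : GoodL D (r :: B)) :
    R.XS r ≤ Subgroup.normalizer (R.UL B : Set Γ) := by
  unfold XS
  rw [Subgroup.closure_le]
  rintro g ⟨t, rfl⟩
  exact R.X_mem_normalizer_UL r hg.1.1 B hg.1.2 t

/-- every element of the subgroup of a good list is an ordered product -/
theorem exists_wordL (R : RData K D Γ) : ∀ L : List ℕ, GoodL D L → ∀ g ∈ R.UL L,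
      ∃ t : ℕ → K, g = wordG R.X (wordL L t)
  | [], _, g, hg => by
    rw [R.UL_nil, Subgroup.mem_bot] at hg
    exact ⟨fun _ => 0, by rw [hg]; rfl⟩
  | r :: B, hgood, g, hg => by
    rw [R.UL_cons, ← SetLike.mem_coe, Subgroup.coe_mul_of_left_le_normalizer_right _ _
      (R.XS_le_normalizer_UL r B hgood), Set.mem_mul] at hg
    obtain ⟨x, hx, g', hg', rfl⟩ := hg
    obtain ⟨a, rfl⟩ := (R.mem_XS_iff r hgood.1.1 x).1 hx
    obtain ⟨t', rfl⟩ := exists_wordL R B hgood.2 g' hg'
    refine ⟨Function.update t' r a, ?_⟩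
    have hnot : ∀ s ∈ B, s ≠ r := fun s hs => (hgood.1.2 s hs).2.1
    have e1 : wordL (r :: B) (Function.update t' r a) = (r, a) :: wordL B t' := by
      unfold wordL
      rw [List.map_cons, Function.update_self]
      congr 1
      apply List.map_congr_left
      intro s hs
      rw [Function.update_of_ne (hnot s hs)]
    rw [e1, wordG_cons]

theorem goodL_lt {L : List ℕ} (h : GoodL D L) : ∀ r ∈ L, r < D.nroots := by
  induction L with
  | nil => intro r hr; exact absurd hr List.not_mem_nil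
  | cons a B ih =>
    intro r hr
    rcases List.mem_cons.1 hr with rfl | hr
    · exact h.1.1
    · exact ih h.2 r hr

/-- the parameters of ordered products in the matrix group are determined -/
def InjL (K : Type*) [Field K] (D : ChevalleyDatum) (hadd : AllAdd K D) (L : List ℕ) : Prop :=
  ∀ t t' : ℕ → K, hadd.wordU (wordL L t) = hadd.wordU (wordL L t') → ∀ r ∈ L, t r = t' r

/-- the homomorphism is injective on the subgroup of a good list with unique ordered products -/
theorem theta_inj_UL (L : List ℕ) (hg : GoodL D L) (hinj : InjL K D R.hadd L)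
    (g : Γ) (hgL : g ∈ R.UL L) (h1 : R.θ g = 1) : g = 1 := by
  obtain ⟨t, rfl⟩ := R.exists_wordL L hg g hgL
  have hlt : ∀ p ∈ wordL L t, p.1 < D.nroots := by
    intro p hp
    unfold wordL at hp
    rw [List.mem_map] at hp
    obtain ⟨r, hr, rfl⟩ := hp
    exact goodL_lt hg r hr
  rw [R.theta_word _ hlt] at h1
  have h0 : R.hadd.wordU (wordL L fun _ => (0 : K)) = 1 := by
    unfold AllAdd.wordU wordL
    rw [List.map_map]
    apply List.prod_eq_one
    intro x hx
    rw [List.mem_map] at hx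
    obtain ⟨r, _, rfl⟩ := hx
    apply Units.ext
    show D.x K r 0 = 1
    exact x_zero r
  have ht := hinj t (fun _ => 0) (h1.trans h0.symm)
  have : wordL L t = wordL L fun _ => (0 : K) := wordL_congr L _ _ ht
  rw [this]
  unfold wordG wordL
  rw [List.map_map]
  apply List.prod_eq_one
  intro x hx
  rw [List.mem_map] at hx
  obtain ⟨r, hr, rfl⟩ := hx
  exact R.X_zero r (goodL_lt hg r hr)

theorem theta_inj_UL' (L : List ℕ) (hg : GoodL D L) (hinj : InjL K D R.hadd L)
    (g g' : Γ) (hgL : g ∈ R.UL L) (hgL' : g' ∈ R.UL L) (h1 : R.θ g = R.θ g') : g = g' := by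
  have := R.theta_inj_UL L hg hinj (g * g'⁻¹) (Subgroup.mul_mem _ hgL (Subgroup.inv_mem _ hgL'))
    (by rw [map_mul, map_inv, h1, mul_inv_cancel])
  exact mul_inv_eq_one.1 this

end RData

end Cfsg.Agent.Lib.Helper5.St
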