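import Cfsg.Agent.Lib.Helper5.St.RankOneB
import Mathlib

/-!
# Rank one computations over a finite field: `h` is multiplicative (helper5)
-/

set_option autoImplicit false

namespace Cfsg.Agent.Lib.Helper5.St

/-- an element that is not a square in a finite field is a sum of two non-zero squares -/
theorem nonsquare_eq_sq_add_sq {K : Type*} [Field K] [Fintype K] (hF : ringChar K ≠ 2) (ν : K)
    (hν : ¬ IsSquare ν) : ∃ a b : K, a ≠ 0 ∧ b ≠ 0 ∧ ν = a ^ 2 + b ^ 2 := by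
  classical
  let f : Polynomial K := Polynomial.X ^ 2
  let g : Polynomial K := Polynomial.X ^ 2 - Polynomial.C ν
  obtain ⟨a, b, hab⟩ : ∃ a b, f.eval a + g.eval b = 0 :=
    FiniteField.exists_root_sum_quadratic (Polynomial.degree_X_pow 2)
      (Polynomial.degree_X_pow_sub_C (by decide) _) (FiniteField.odd_card_of_char_ne_two hF)
  have h : ν = a ^ 2 + b ^ 2 := by
    have : a ^ 2 + (b ^ 2 - ν) = 0 := by
      simpa only [f, g, Polynomial.eval_C, Polynomial.eval_X, Polynomial.eval_pow,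
        Polynomial.eval_sub] using hab
    linear_combination -this
  refine ⟨a, b, ?_, ?_, h⟩
  · rintro rfl
    apply hν
    exact ⟨b, by rw [h]; ring⟩
  · rintro rfl
    apply hν
    exact ⟨a, by rw [h]; ring⟩

/-- the quotient of two non-squares in a finite field is a square -/
theorem nonsquare_div {K : Type*} [Field K] [Fintype K] (hF : ringChar K ≠ 2) (t u : K)
    (ht0 : t ≠ 0) (hu0 : u ≠ 0) (ht : ¬ IsSquare t) (hu : ¬ IsSquare u) :
    ∃ r : K, r ≠ 0 ∧ t = r ^ 2 * u := by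
  have h1 : t ^ (Fintype.card K / 2) = -1 := by
    rcases FiniteField.pow_dichotomy hF ht0 with h | h
    · exact absurd ((FiniteField.isSquare_iff hF ht0).2 h) ht
    · exact h
  have h2 : u ^ (Fintype.card K / 2) = -1 := by
    rcases FiniteField.pow_dichotomy hF hu0 with h | h
    · exact absurd ((FiniteField.isSquare_iff hF hu0).2 h) hu
    · exact h
  have h3 : IsSquare (t / u) := by
    rw [FiniteField.isSquare_iff hF (div_ne_zero ht0 hu0), div_pow, h1, h2]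
    simp
  obtain ⟨r, hr⟩ := h3
  refine ⟨r, ?_, ?_⟩
  · rintro rfl
    rw [mul_zero] at hr
    exact div_ne_zero ht0 hu0 hr
  · rw [pow_two, ← hr, div_mul_cancel₀ _ hu0]

namespace R1Data

variable {K : Type*} [Field K] [Fintype K] {G : Type*} [Group G] (A : R1Data K G)
  (hcen : ∀ t u : K, t ≠ 0 → u ≠ 0 → A.h t * A.h u * (A.h (t * u))⁻¹ ∈ Subgroup.center G)

include hcen

/-- the elements `h(t)` commute -/
theorem h_comm (t u : K) (ht : t ≠ 0) (hu : u ≠ 0) : A.h t * A.h u = A.h u * A.h t := by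
  obtain ⟨g, hg⟩ := IsCyclic.exists_generator (α := Kˣ)
  have key : ∀ k : ℕ, ∃ z ∈ Subgroup.center G, A.h ((g ^ k : Kˣ) : K) = z * A.h (g : K) ^ k := by
    intro k
    induction k with
    | zero =>
      refine ⟨1, Subgroup.one_mem _, ?_⟩
      rw [pow_zero, pow_zero, Units.val_one, A.h_one, one_mul]
    | succ k ih =>
      obtain ⟨z, hz, e⟩ := ih
      have hc := hcen ((g ^ k : Kˣ) : K) (g : K) (Units.ne_zero _) (Units.ne_zero _)
      refine ⟨(A.h ((g ^ k : Kˣ) : K) * A.h (g : K) * (A.h (((g ^ k : Kˣ) : K) * (g : K)))⁻¹)⁻¹ * z,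
        Subgroup.mul_mem _ (Subgroup.inv_mem _ hc) hz, ?_⟩
      rw [pow_succ, pow_succ, Units.val_mul, ← mul_assoc, mul_assoc _ z, ← e, mul_inv_rev,
        mul_inv_rev, inv_inv]
      simp only [mul_assoc, inv_mul_cancel, mul_one]
  obtain ⟨k, hk⟩ : Units.mk0 t ht ∈ Submonoid.powers g := by
    rw [mem_powers_iff_mem_zpowers]
    exact hg _
  obtain ⟨m, hm⟩ : Units.mk0 u hu ∈ Submonoid.powers g := by
    rw [mem_powers_iff_mem_zpowers]
    exact hg _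
  obtain ⟨z, hz, e⟩ := key k
  obtain ⟨z', hz', e'⟩ := key m
  have et : ((g ^ k : Kˣ) : K) = t := congrArg (fun x : Kˣ => (x : K)) hk
  have eu : ((g ^ m : Kˣ) : K) = u := congrArg (fun x : Kˣ => (x : K)) hm
  rw [← et, ← eu, e, e']
  rw [Subgroup.mem_center_iff] at hz hz'
  have hPQ : A.h (g : K) ^ k * A.h (g : K) ^ m = A.h (g : K) ^ m * A.h (g : K) ^ k := by
    rw [← pow_add, ← pow_add, add_comm]
  calc z * A.h (g : K) ^ k * (z' * A.h (g : K) ^ m)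
      = z * (A.h (g : K) ^ k * z') * A.h (g : K) ^ m := by simp only [mul_assoc]
    _ = z * (z' * A.h (g : K) ^ k) * A.h (g : K) ^ m := by rw [hz' (A.h (g : K) ^ k)]
    _ = (z * z') * (A.h (g : K) ^ k * A.h (g : K) ^ m) := by simp only [mul_assoc]
    _ = (z' * z) * (A.h (g : K) ^ m * A.h (g : K) ^ k) := by rw [hz' z, hPQ]
    _ = z' * (z * A.h (g : K) ^ m) * A.h (g : K) ^ k := by simp only [mul_assoc]
    _ = z' * (A.h (g : K) ^ m * z) * A.h (g : K) ^ k := by rw [hz (A.h (g : K) ^ m)]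
    _ = _ := by simp only [mul_assoc]

/-- `h(t² u) = h(t²) h(u)` -/
theorem h_sq_mul (t u : K) (ht : t ≠ 0) (hu : u ≠ 0) :
    A.h (t ^ 2 * u) = A.h (t ^ 2) * A.h u := by
  have h1 := A.h_conj_h t ht u hu
  rw [A.h_comm hcen t u ht hu, mul_inv_cancel_right] at h1
  have h2 : A.h u * A.h (t ^ 2) = A.h (t ^ 2 * u) := by rw [h1, inv_mul_cancel_right]
  rw [← h2, A.h_comm hcen u (t ^ 2) hu (pow_ne_zero 2 ht)]

/-- `h(ν) h(ν) = h(ν²)` for a non-square `ν` -/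
theorem h_nonsq (hF : ringChar K ≠ 2) (ν : K) (hν : ¬ IsSquare ν) :
    A.h ν * A.h ν = A.h (ν ^ 2) := by
  have hν0 : ν ≠ 0 := by
    rintro rfl
    exact hν ⟨0, by simp⟩
  obtain ⟨σ, σ', hσ, hσ', e⟩ := nonsquare_eq_sq_add_sq hF ν hν
  have hb : -(σ' ^ 2) ≠ 0 := neg_ne_zero.2 (pow_ne_zero 2 hσ')
  have hc : 1 + ν⁻¹ * (-(σ' ^ 2)) = σ ^ 2 / ν := by
    have h1 : σ ^ 2 = ν - σ' ^ 2 := by rw [e]; ring
    rw [h1]
    field_simp
    ring
  have hc0 : 1 + ν⁻¹ * (-(σ' ^ 2)) ≠ 0 := by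
    rw [hc]
    exact div_ne_zero (pow_ne_zero 2 hσ) hν0
  have B := A.h_bruhat ν⁻¹ (-(σ' ^ 2)) (inv_ne_zero hν0) hb hc0
  rw [hc, inv_inv, neg_neg] at B
  have e1 : (ν⁻¹ * (σ ^ 2 / ν))⁻¹ = (σ⁻¹) ^ 2 * ν ^ 2 := by field_simp
  have e2 : -(-(σ' ^ 2) / (σ ^ 2 / ν)) = σ' ^ 2 * ((σ⁻¹) ^ 2 * ν) := by field_simp
  have hσi : σ⁻¹ ≠ 0 := inv_ne_zero hσ
  have hsi2 : (σ⁻¹) ^ 2 ≠ 0 := pow_ne_zero 2 hσi
  have hν2 : ν ^ 2 ≠ 0 := pow_ne_zero 2 hν0
  rw [e1, e2, A.h_sq_mul hcen σ⁻¹ (ν ^ 2) hσi hν2,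
    A.h_sq_mul hcen σ' ((σ⁻¹) ^ 2 * ν) hσ' (mul_ne_zero hsi2 hν0),
    A.h_sq_mul hcen σ⁻¹ ν hσi hν0] at B
  have c1 := A.h_comm hcen (σ' ^ 2) ((σ⁻¹) ^ 2) (pow_ne_zero 2 hσ') hsi2
  have c2 := A.h_comm hcen (σ' ^ 2) ν (pow_ne_zero 2 hσ') hν0
  have h3 : A.h (σ' ^ 2) * (A.h ((σ⁻¹) ^ 2) * A.h ν) * (A.h (σ' ^ 2))⁻¹
      = A.h ((σ⁻¹) ^ 2) * A.h ν := by
    calc A.h (σ' ^ 2) * (A.h ((σ⁻¹) ^ 2) * A.h ν) * (A.h (σ' ^ 2))⁻¹
        = (A.h (σ' ^ 2) * A.h ((σ⁻¹) ^ 2)) * A.h ν * (A.h (σ' ^ 2))⁻¹ := by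
          simp only [mul_assoc]
      _ = A.h ((σ⁻¹) ^ 2) * (A.h (σ' ^ 2) * A.h ν) * (A.h (σ' ^ 2))⁻¹ := by
          rw [c1]
          simp only [mul_assoc]
      _ = _ := by
          rw [c2]
          simp only [mul_assoc, mul_inv_cancel, mul_one]
  rw [h3, mul_assoc] at B
  have h4 := mul_left_cancel B
  exact (mul_inv_eq_iff_eq_mul.1 h4).symm

/-- over a finite field `h` is multiplicative -/
theorem h_mul (t u : K) (ht : t ≠ 0) (hu : u ≠ 0) : A.h t * A.h u = A.h (t * u) := by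
  by_cases hu2 : IsSquare u
  · obtain ⟨r, hr⟩ := hu2
    have hr0 : r ≠ 0 := by
      rintro rfl
      rw [mul_zero] at hr
      exact hu hr
    have e : u = r ^ 2 := by rw [hr, pow_two]
    rw [e, mul_comm t, A.h_sq_mul hcen r t hr0 ht,
      A.h_comm hcen t (r ^ 2) ht (pow_ne_zero 2 hr0)]
  · by_cases ht2 : IsSquare t
    · obtain ⟨r, hr⟩ := ht2
      have hr0 : r ≠ 0 := by
        rintro rfl
        rw [mul_zero] at hr
        exact ht hr
      have e : t = r ^ 2 := by rw [hr, pow_two]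
      rw [e, A.h_sq_mul hcen r u hr0 hu]
    · have hF : ringChar K ≠ 2 := by
        intro h2
        exact hu2 (FiniteField.isSquare_of_char_two h2 u)
      obtain ⟨r, hr0, e⟩ := nonsquare_div hF t u ht hu ht2 hu2
      have e2 : t * u = r ^ 2 * u ^ 2 := by rw [e]; ring
      rw [e2, A.h_sq_mul hcen r (u ^ 2) hr0 (pow_ne_zero 2 hu), ← A.h_nonsq hcen hF u hu2, e,
        A.h_sq_mul hcen r u hr0 hu]
      simp only [mul_assoc]

end R1Data

end Cfsg.Agent.Lib.Helper5.St
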