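import Cfsg.Agent.Lib.Helper5.St.Unimod2
import Mathlib

/-!
# The presented group of type `G₂`, `F₄`, `E₈` has trivial centre (helper5)
-/

set_option autoImplicit false

namespace Cfsg.Agent.Lib.Helper5.St

open Cfsg.Lie Cfsg.Agent.Lib.Helper5.Chev Cfsg.Agent.Lib.Helper5.Tw
open scoped Matrix

variable {K : Type*} [Field K] {D : ChevalleyDatum}

/-- the relation (R3) in the presented group -/
theorem steinberg_hbar_mul (hD : D ∈ [chevG2, chevB2, chevD4, chevF4, chevE6, chevE7, chevE8])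
    (i : ℕ) (hi : i < D.rank) (t₁ t₂ : K) (h1 : t₁ ≠ 0) (h2 : t₂ ≠ 0) :
    (steinbergRData (K := K) hD).hbar i t₁ * (steinbergRData (K := K) hD).hbar i t₂
      = (steinbergRData (K := K) hD).hbar i (t₁ * t₂) := by
  obtain ⟨hp, -⟩ := simple_lt_all D hD i hi
  rw [steinberg_hbar, steinberg_hbar, steinberg_hbar]
  have hmem : D.stH (D.simple i) t₁ * D.stH (D.simple i) t₂ * (D.stH (D.simple i) (t₁ * t₂))⁻¹
      ∈ D.steinbergRels K := by
    rw [steinbergRels_eq]
    exact Or.inr ⟨D.simple i, t₁, t₂, hp, h1, h2, rfl⟩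
  have := PresentedGroup.one_of_mem (rels := D.steinbergRels K) hmem
  rw [map_mul, map_mul, map_inv, mul_inv_eq_one] at this
  exact this

/-- a list of lists as a matrix -/
def matOf (L : List (List ℤ)) (n : ℕ) : Fin n → Fin n → ℤ := fun j m => (L.getD j.val []).getD m.val 0

def invG2 : List (List ℤ) := [[2, 3], [1, 2]]

def invF4 : List (List ℤ) := [[2, 3, 4, 2], [3, 6, 8, 4], [2, 4, 6, 3], [1, 2, 3, 2]]

def invE8 : List (List ℤ) :=
  [[4, 5, 7, 10, 8, 6, 4, 2], [5, 8, 10, 15, 12, 9, 6, 3], [7, 10, 14, 20, 16, 12, 8, 4],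
    [10, 15, 20, 30, 24, 18, 12, 6], [8, 12, 16, 24, 20, 15, 10, 5], [6, 9, 12, 18, 15, 12, 8, 4],
    [4, 6, 8, 12, 10, 8, 6, 3], [2, 3, 4, 6, 5, 4, 3, 2]]

theorem unimodG2 : ∀ k m : Fin chevG2.rank, ∑ j : Fin chevG2.rank,
    chevG2.cartan k (chevG2.simple j) * matOf invG2 chevG2.rank j m = if k = m then 1 else 0 := by
  decide +kernel

theorem unimodF4 : ∀ k m : Fin chevF4.rank, ∑ j : Fin chevF4.rank,
    chevF4.cartan k (chevF4.simple j) * matOf invF4 chevF4.rank j m = if k = m then 1 else 0 := by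
  decide +kernel

theorem unimodE8 : ∀ k m : Fin chevE8.rank, ∑ j : Fin chevE8.rank,
    chevE8.cartan k (chevE8.simple j) * matOf invE8 chevE8.rank j m = if k = m then 1 else 0 := by
  decide +kernel

/-- the presented group of type `G₂`, `F₄`, `E₈` has trivial centre -/
theorem steinberg_center_eq_bot (hD : D ∈ [chevG2, chevF4, chevE8]) :
    Subgroup.center (D.SteinbergGroup K) = ⊥ := by
  have hD' : D ∈ [chevG2, chevB2, chevD4, chevF4, chevE6, chevE7, chevE8] := by
    simp only [List.mem_cons, List.not_mem_nil, or_false] at hD ⊢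
    rcases hD with h | h | h
    · exact Or.inl h
    · exact Or.inr (Or.inr (Or.inr (Or.inl h)))
    · exact Or.inr (Or.inr (Or.inr (Or.inr (Or.inr (Or.inr h)))))
  have hB : ∃ B : Fin D.rank → Fin D.rank → ℤ, ∀ k m : Fin D.rank,
      ∑ j : Fin D.rank, D.cartan k (D.simple j) * B j m = if k = m then 1 else 0 := by
    simp only [List.mem_cons, List.not_mem_nil, or_false] at hD
    rcases hD with rfl | rfl | rfl
    · exact ⟨_, unimodG2⟩
    · exact ⟨_, unimodF4⟩
    · exact ⟨_, unimodE8⟩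
  obtain ⟨B, hB⟩ := hB
  obtain ⟨T, Bs, gH, baseH, fuel, C⟩ := stCtx_known K D hD'
  have h1 := (steinbergRData (K := K) hD').ker_eq_bot_of_unimod C
    (fun i hi t₁ t₂ h1 h2 => steinberg_hbar_mul hD' i hi t₁ t₂ h1 h2) B hB
  rw [← (steinbergRData (K := K) hD').thetaG_ker_eq_center,
    (steinbergRData (K := K) hD').thetaG_ker, h1]

end Cfsg.Agent.Lib.Helper5.St
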