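import Cfsg.Agent.Lib.Helper5.St.R3All
import Mathlib

/-!
# Over a finite field the group presented by (R1), (R2) is the group presented by (R1)–(R3) (helper5)
-/

set_option autoImplicit false

namespace Cfsg.Agent.Lib.Helper5.St

open Cfsg.Lie Cfsg.Agent.Lib.Helper5.Chev Cfsg.Agent.Lib.Helper5.Tw
open scoped Matrix

variable {K : Type*} [Field K] {D : ChevalleyDatum}

theorem lift_of_eq_mk {α : Type*} (rels : Set (FreeGroup α)) (g : FreeGroup α) :
    FreeGroup.lift (fun a => (PresentedGroup.of a : PresentedGroup rels)) g
      = PresentedGroup.mk rels g := by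
  have h : FreeGroup.lift (fun a => (PresentedGroup.of a : PresentedGroup rels))
      = PresentedGroup.mk rels := by
    ext a
    rw [FreeGroup.lift_apply_of]
    rfl
  rw [h]

theorem cover_hroot (hD : D ∈ [chevG2, chevB2, chevD4, chevF4, chevE6, chevE7, chevE8])
    (r : ℕ) (t : K) :
    PresentedGroup.mk (D.steinbergRelsAB K) (D.stH r t) = (coverRData (K := K) hD).hroot r t := by
  rw [RData.hroot_eq_wordG]
  unfold ChevalleyDatum.stH
  rw [mk_stWord]
  rfl

/-- over a finite field the relators (R3) are trivial in the group presented by (R1), (R2) -/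
theorem cover_relsC [Finite K] (hD : D ∈ [chevG2, chevB2, chevD4, chevF4, chevE6, chevE7, chevE8])
    (g : FreeGroup (Fin D.nroots × K)) (hg : g ∈ relsC K D) :
    PresentedGroup.mk (D.steinbergRelsAB K) g = 1 := by
  cases nonempty_fintype K
  obtain ⟨r, t₁, t₂, hr, h1, h2, rfl⟩ := hg
  obtain ⟨T, Bs, gH, baseH, fuel, C⟩ := stCtx_known K D hD
  rw [map_mul, map_mul, map_inv, cover_hroot hD, cover_hroot hD, cover_hroot hD,
    (coverRData (K := K) hD).hroot_mul_fin C r hr t₁ t₂ h1 h2, mul_inv_cancel]

/-- the homomorphism from the group presented by (R1), (R2) onto the group presented by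
(R1)–(R3) -/
noncomputable def coverToSt (K : Type*) [Field K] (D : ChevalleyDatum) :
    D.SteinbergCover K →* D.SteinbergGroup K :=
  PresentedGroup.toGroup (rels := D.steinbergRelsAB K)
    (f := fun a => (PresentedGroup.of a : D.SteinbergGroup K)) (by
      intro r hr
      rw [lift_of_eq_mk]
      apply PresentedGroup.one_of_mem
      rw [steinbergRelsAB_eq] at hr
      rw [steinbergRels_eq]
      exact Or.inl hr)

theorem coverToSt_mk (g : FreeGroup (Fin D.nroots × K)) :
    coverToSt K D (PresentedGroup.mk (D.steinbergRelsAB K) g)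
      = PresentedGroup.mk (D.steinbergRels K) g := by
  unfold coverToSt
  have : PresentedGroup.mk (D.steinbergRelsAB K) g = QuotientGroup.mk g := rfl
  rw [← lift_of_eq_mk (D.steinbergRels K) g]
  rfl

/-- the inverse homomorphism over a finite field -/
noncomputable def stToCover [Finite K]
    (hD : D ∈ [chevG2, chevB2, chevD4, chevF4, chevE6, chevE7, chevE8]) :
    D.SteinbergGroup K →* D.SteinbergCover K :=
  PresentedGroup.toGroup (rels := D.steinbergRels K)
    (f := fun a => (PresentedGroup.of a : D.SteinbergCover K)) (by
      intro r hr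
      rw [lift_of_eq_mk]
      rw [steinbergRels_eq] at hr
      rcases hr with hr | hr
      · apply PresentedGroup.one_of_mem
        rw [steinbergRelsAB_eq]
        exact hr
      · exact cover_relsC hD r hr)

/-- over a finite field the two presented groups are isomorphic, matching the generators -/
theorem cover_equiv [Finite K]
    (hD : D ∈ [chevG2, chevB2, chevD4, chevF4, chevE6, chevE7, chevE8]) :
    ∃ e : D.SteinbergCover K ≃* D.SteinbergGroup K,
      ∀ (r : ℕ) (t : K), e (D.scGen K r t) = D.stGen K r t := by
  have h1 : (stToCover (K := K) hD).comp (coverToSt K D) = MonoidHom.id _ := by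
    apply PresentedGroup.ext
    intro a
    simp [coverToSt, stToCover]
  have h2 : (coverToSt K D).comp (stToCover (K := K) hD) = MonoidHom.id _ := by
    apply PresentedGroup.ext
    intro a
    simp [coverToSt, stToCover]
  refine ⟨MonoidHom.toMulEquiv (coverToSt K D) (stToCover hD) h1 h2, fun r t => ?_⟩
  show coverToSt K D (PresentedGroup.mk (D.steinbergRelsAB K) (D.stX r t)) = _
  rw [coverToSt_mk]
  rfl

end Cfsg.Agent.Lib.Helper5.St
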