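import Cfsg.Agent.Lib.Helper5.St.Central
import Cfsg.Agent.Lib.Helper5.Chev.BNPairChev
import Cfsg.Agent.S0312
import Mathlib

/-!
# The centre of the Chevalley group is trivial (helper5)
-/

set_option autoImplicit false

namespace Cfsg.Agent.Lib.Helper5.St

open Cfsg.Lie Cfsg.Agent.Lib.Helper5.Chev Cfsg.Agent.Lib.Helper5.Tw
open scoped Matrix

variable {K : Type*} [Field K]

/-- the centre of the Chevalley group is trivial -/
theorem chev_center_eq_bot (D : ChevalleyDatum)
    (hD : D ∈ [chevG2, chevB2, chevD4, chevF4, chevE6, chevE7, chevE8]) :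
    Subgroup.center ↥(D.group K) = ⊥ := by
  obtain ⟨P, hPB, -, -⟩ := bnPair_all (F := K) D hD
  rw [eq_bot_iff]
  intro g hg
  rw [Subgroup.mem_bot]
  have hg' := Subgroup.mem_center_iff.1 hg
  have hnorm : g ∈ Subgroup.normalizer (P.parabolic ∅ : Set ↥(D.group K)) := by
    rw [Subgroup.mem_normalizer_iff]
    intro h
    have : g * h * g⁻¹ = h := by rw [← hg' h, mul_inv_cancel_right]
    rw [this]
  rw [Cfsg.Agent.S0312.result P (Set.empty_subset _)] at hnorm
  have hB : g ∈ P.B := by
    unfold Cfsg.BNPair.parabolic at hnorm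
    rw [Subgroup.closure_empty, sup_bot_eq] at hnorm
    exact hnorm
  rw [hPB, Subgroup.mem_subgroupOf] at hB
  apply Subtype.ext
  apply core_trivial D hD (g : GL D.Idx K) g.2
  intro y hy
  have e : (⟨y, hy⟩ : ↥(D.group K)) * g = g * ⟨y, hy⟩ := hg' ⟨y, hy⟩
  have e' : y * (g : GL D.Idx K) = (g : GL D.Idx K) * y := congrArg Subtype.val e
  rw [e', mul_inv_cancel_right]
  exact hB

namespace RData

variable {D : ChevalleyDatum} {Γ : Type*} [Group Γ] (R : RData K D Γ)

/-- the centre lies in the kernel -/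
theorem center_le_ker : Subgroup.center Γ ≤ R.thetaG.ker := by
  intro z hz
  rw [MonoidHom.mem_ker]
  have hz' := Subgroup.mem_center_iff.1 hz
  have : R.thetaG z ∈ Subgroup.center ↥(D.group K) := by
    rw [Subgroup.mem_center_iff]
    intro h
    obtain ⟨y, rfl⟩ := R.thetaG_surjective h
    rw [← map_mul, ← map_mul, hz' y]
  rw [chev_center_eq_bot D R.hD] at this
  exact Subgroup.mem_bot.1 this

end RData

end Cfsg.Agent.Lib.Helper5.St
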