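import Cfsg.Agent.Lib.Helper5.St.Kernel
import Mathlib

/-!
# The kernel of the homomorphism onto the Chevalley group is central, continued (helper5)
-/

set_option autoImplicit false

namespace Cfsg.Agent.Lib.Helper5.St

open Cfsg.Lie Cfsg.Agent.Lib.Helper5.Chev Cfsg.Agent.Lib.Helper5.Tw
open scoped Matrix

namespace RData

variable {K : Type*} [Field K] {D : ChevalleyDatum} {Γ : Type*} [Group Γ] (R : RData K D Γ)
  {T : FD} {Bs : List ℕ} {gH : ℕ} {baseH : List ℕ} {fuel : ℕ}

theorem mem_closure_gen (g : Γ) :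
    g ∈ Subgroup.closure {g : Γ | ∃ r < D.nroots, ∃ t : K, g = R.X r t} := by
  rw [R.gen]
  trivial

theorem theta_mem (g : Γ) : R.θ g ∈ D.group K := by
  have hle : Subgroup.closure {g : Γ | ∃ r < D.nroots, ∃ t : K, g = R.X r t}
      ≤ (D.group K).comap R.θ := by
    rw [Subgroup.closure_le]
    rintro x ⟨r, hr, t, rfl⟩
    show R.θ (R.X r t) ∈ D.group K
    rw [R.hθ r hr]
    exact R.hadd.xU_mem_group r t
  exact hle (R.mem_closure_gen g)

/-- the homomorphism into the Chevalley group -/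
def thetaG : Γ →* ↥(D.group K) := R.θ.codRestrict (D.group K) R.theta_mem

theorem thetaG_val (g : Γ) : ((R.thetaG g : ↥(D.group K)) : GL D.Idx K) = R.θ g := rfl

theorem thetaG_surjective : Function.Surjective R.thetaG := by
  rintro ⟨g, hg⟩
  have hle : D.group K ≤ R.θ.range := by
    unfold ChevalleyDatum.group
    rw [Subgroup.closure_le]
    rintro x ⟨r, t, hx⟩
    refine ⟨R.X r t, ?_⟩
    rw [R.hθ r r.2]
    apply Units.ext
    rw [hx]
    exact x_eq_xMat r r.2 t
  obtain ⟨z, hz⟩ := hle hg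
  exact ⟨z, Subtype.ext hz⟩

theorem thetaG_ker : R.thetaG.ker = R.θ.ker := by
  ext z
  rw [MonoidHom.mem_ker, MonoidHom.mem_ker]
  constructor
  · intro h
    have := congrArg (Subtype.val) h
    exact this
  · intro h
    exact Subtype.ext h

theorem thetaG_X (r : ℕ) (hr : r < D.nroots) (t : K) :
    (((R.thetaG (R.X r t) : ↥(D.group K)) : GL D.Idx K) : Matrix D.Idx D.Idx K) = D.x K r t := by
  rw [thetaG_val, R.hθ r hr]
  rfl

variable (C : StCtx K D T Bs gH baseH fuel)

include C

/-- left multiplication by a root element preserves `Ū N̄ Ū` -/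
theorem X_mul_mem : ∀ s < D.nroots, ∀ (t : K) (g : Γ), g ∈ R.YY → R.X s t * g ∈ R.YY := by
  apply reach_all C.hA (fun s => ∀ (t : K) (g : Γ), g ∈ R.YY → R.X s t * g ∈ R.YY) Bs gH baseH
    fuel C.hr
  · intro s hs t g hg
    obtain ⟨j, hj, rfl⟩ := C.hbase s hs
    have F := C.facts R.hadd j hj
    exact R.U_mul_mem _ (R.X_mem_UL _ _ ((mem_posL F.even _).2 ⟨F.hposp, F.hp⟩) t) g hg
  · intro i hi s hs
    exact (C.facts R.hadd i hi).wlt s hs
  · intro i hi s hs h t g hg
    have F := C.facts R.hadd i hi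
    obtain ⟨c, hc, e⟩ := R.nbar_conj F 1 one_ne_zero s hs
    have e1 : R.X s t * g = R.nbar (D.simple i) (-1) *
        (R.X (wOf (Bs.getD i 0) s) (c * t) * (R.nbar (D.simple i) 1 * g)) := by
      rw [← e t, ← R.nbar_inv _ F.hp F.hq]
      simp only [mul_assoc, inv_mul_cancel_left]
    rw [e1]
    exact R.nbar_mul_mem C i hi (-1) (neg_ne_zero.2 one_ne_zero) _
      (h _ _ (R.nbar_mul_mem C i hi 1 one_ne_zero g hg))

/-- the abstract group is `Ū N̄ Ū` -/
theorem YY_univ (g : Γ) : g ∈ R.YY := by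
  have hg := R.mem_closure_gen g
  induction hg using Subgroup.closure_induction_left with
  | one => exact R.one_mem_YY
  | mul_left x hx y _ ih =>
    obtain ⟨r, hr, t, rfl⟩ := hx
    exact R.X_mul_mem C r hr t y ih
  | inv_mul_cancel x hx y _ ih =>
    obtain ⟨r, hr, t, rfl⟩ := hx
    rw [R.X_inv r hr]
    exact R.X_mul_mem C r hr (-t) y ih

/-- the image of `n_i(τ)` lies in `N` -/
theorem theta_nbar_mem (i : ℕ) (hi : i < D.rank) (τ : K) (hτ : τ ≠ 0) :
    R.θ (R.nbar (D.simple i) τ) ∈ D.monomialSubgroup K := by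
  have F := C.facts R.hadd i hi
  rw [R.theta_nbar _ F.hp F.hq]
  have e : R.hadd.wordU (D.nWord (D.simple i) τ)
      = R.hadd.wordU (D.hWord (D.simple i) τ) * R.hadd.nU (D.simple i) F.hp F.hq := by
    have h1 : R.hadd.wordU (D.hWord (D.simple i) τ)
        = R.hadd.wordU (D.nWord (D.simple i) τ) * R.hadd.wordU (D.nWord (D.simple i) (-1)) := by
      unfold ChevalleyDatum.hWord AllAdd.wordU
      rw [List.map_append, List.prod_append]
    have h2 : R.hadd.wordU (D.nWord (D.simple i) (-1))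
        = (R.hadd.nU (D.simple i) F.hp F.hq)⁻¹ := by
      apply Units.ext
      rw [R.hadd.wordU_val]
      exact nMat_neg_one_eq _
    rw [h1, h2, inv_mul_cancel_right]
  rw [e]
  apply Subgroup.mul_mem
  · unfold ChevalleyDatum.monomialSubgroup
    apply Subgroup.mem_sup_left
    apply Subgroup.subset_closure
    exact ⟨D.simple i, τ, F.hp, hτ, R.hadd.wordU_val _⟩
  · exact R.hadd.nU_mem _ _ _

theorem theta_nW_mem (w : List (ℕ × K)) (hw : OKw D w) :
    R.θ (R.nW w) ∈ D.monomialSubgroup K := by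
  induction w with
  | nil =>
    rw [nW_nil, map_one]
    exact Subgroup.one_mem _
  | cons x w ih =>
    rw [nW_cons, map_mul]
    exact Subgroup.mul_mem _
      (R.theta_nbar_mem C x.1 (hw x List.mem_cons_self).1 x.2 (hw x List.mem_cons_self).2)
      (ih fun y hy => hw y (List.mem_cons_of_mem _ hy))

/-- a word in the kernel is central -/
theorem nW_central (w : List (ℕ × K)) (hw : OKw D w) (h1 : R.θ (R.nW w) = 1) :
    R.nW w ∈ Subgroup.center Γ := by
  have hcomm : ∀ s < D.nroots, ∀ u : K, (R.nW w)⁻¹ * R.X s u * R.nW w = R.X s u := by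
    intro s hs u
    obtain ⟨c, hc, e⟩ := R.nW_conj' C w hw s hs
    have hslt := wW'_lt C.hA Bs C.hB _ hw.fst_lt s hs
    have e2 : ∀ u : K, R.hadd.xU s u = R.hadd.xU (wW' Bs (w.map Prod.fst) s) (c * u) := by
      intro u
      have := congrArg R.θ (e u)
      rw [map_mul, map_mul, map_inv, h1, inv_one, one_mul, mul_one, R.hθ s hs, R.hθ _ hslt] at this
      exact this
    have hss : s = wW' Bs (w.map Prod.fst) s :=
      xU_root_eq D C.hD R.hadd s _ hs hslt (c * 1) (e2 1)
    have hc1 : c = 1 := by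
      have := e2 1
      rw [← hss, mul_one] at this
      exact (xU_injective R.hadd s (xInj_all D C.hD s hs) 1 c this).symm
    rw [e u, ← hss, hc1, one_mul]
  have hle : Subgroup.closure {g : Γ | ∃ r < D.nroots, ∃ t : K, g = R.X r t}
      ≤ Subgroup.centralizer {R.nW w} := by
    rw [Subgroup.closure_le]
    rintro x ⟨r, hr, t, rfl⟩
    rw [SetLike.mem_coe, Subgroup.mem_centralizer_iff]
    intro h hh
    rw [Set.mem_singleton_iff] at hh
    rw [hh]
    have := hcomm r hr t
    calc R.nW w * R.X r t = R.nW w * ((R.nW w)⁻¹ * R.X r t * R.nW w) := by rw [this]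
      _ = R.X r t * R.nW w := by simp only [mul_assoc, mul_inv_cancel_left]
  rw [Subgroup.mem_center_iff]
  intro g
  have := hle (R.mem_closure_gen g)
  rw [Subgroup.mem_centralizer_iff] at this
  exact (this _ rfl).symm

/-- the kernel is central -/
theorem ker_le_center : R.θ.ker ≤ Subgroup.center Γ := by
  intro z hz
  rw [MonoidHom.mem_ker] at hz
  obtain ⟨u, hu, w, hw, u', hu', rfl⟩ := R.YY_univ C z
  have heven := even_all D C.hD
  have hpos : ∀ r ∈ posL D, D.IsPosRoot r := fun r hr =>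
    (pos_iff_all D C.hD r ((mem_posL heven r).1 hr).2).2 ((mem_posL heven r).1 hr).1
  rw [map_mul, map_mul] at hz
  have h1 : R.θ (R.nW w) ∈ D.posUnipotent K := by
    have e : R.θ (R.nW w) = (R.θ u)⁻¹ * (R.θ u')⁻¹ := by
      calc R.θ (R.nW w) = (R.θ u)⁻¹ * (R.θ u * R.θ (R.nW w) * R.θ u') * (R.θ u')⁻¹ := by
            simp only [mul_assoc, inv_mul_cancel_left, mul_inv_cancel, mul_one]
        _ = _ := by rw [hz, mul_one]
    rw [e]
    exact Subgroup.mul_mem _ (Subgroup.inv_mem _ (R.theta_UL_pos _ hpos u hu))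
      (Subgroup.inv_mem _ (R.theta_UL_pos _ hpos u' hu'))
  have h2 := R.theta_nW_mem C w hw
  have h3 : R.θ (R.nW w) = 1 := by
    have : R.θ (R.nW w) ∈ D.posUnipotent K ⊓ D.monomialSubgroup K := ⟨h1, h2⟩
    rw [(borel_inf_monomial_all D C.hD).1] at this
    exact Subgroup.mem_bot.1 this
  have h4 : u * u' = 1 := by
    apply R.theta_inj_UL (posL D) C.good (injL_posL C.hD R.hadd) _ (Subgroup.mul_mem _ hu hu')
    rw [h3, mul_one] at hz
    rw [map_mul]
    exact hz
  have hn := R.nW_central C w hw h3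
  have : u * R.nW w * u' = R.nW w := by
    rw [Subgroup.mem_center_iff] at hn
    rw [hn u, mul_assoc, h4, mul_one]
  rw [this]
  exact hn

end RData

end Cfsg.Agent.Lib.Helper5.St
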