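import Cfsg.Agent.Lib.Helper5.St.GInj
import Cfsg.Agent.Lib.Helper5.Chev.W0All
import Mathlib

/-!
# Boolean checks on the root tables used for Steinberg's presentation (helper5)
-/

set_option autoImplicit false

namespace Cfsg.Agent.Lib.Helper5.St

open Cfsg.Lie Cfsg.Agent.Lib.Helper5.Chev Cfsg.Agent.Lib.Helper5.Tw

/-- membership test -/
def memb (c : ℕ) : List ℕ → Bool
  | [] => false
  | a :: L => Nat.beq a c || memb c L

theorem memb_iff (c : ℕ) (L : List ℕ) : memb c L = true ↔ c ∈ L := by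
  induction L with
  | nil => simp [memb]
  | cons a L ih =>
    rw [memb, Bool.or_eq_true, ih, FD.nbeq, List.mem_cons]
    constructor
    · rintro (h | h)
      · exact Or.inl h.symm
      · exact Or.inr h
    · rintro (h | h)
      · exact Or.inl h.symm
      · exact Or.inr h

/-- the check of a good order -/
def goodb (T : FD) : List ℕ → Bool
  | [] => true
  | r :: B => Nat.blt r T.nroots &&
      (B.all fun s => Nat.blt s T.nroots && !Nat.beq s r && !Nat.beq s (T.neg r) &&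
        (T.commTerms r s).all fun c => memb c.1 B) && goodb T B

theorem goodL_of_check {T : FD} {D : ChevalleyDatum} (hA : T.Agrees D) :
    ∀ L : List ℕ, goodb T L = true → GoodL D L
  | [], _ => trivial
  | r :: B, h => by
    rw [goodb, Bool.and_eq_true, Bool.and_eq_true, Nat.blt_eq, hA.nroots_eq, List.all_eq_true] at h
    obtain ⟨⟨hr, hB⟩, hrest⟩ := h
    refine ⟨⟨hr, fun s hs => ?_⟩, goodL_of_check hA B hrest⟩
    have := hB s hs
    rw [Bool.and_eq_true, Bool.and_eq_true, Bool.and_eq_true, Nat.blt_eq, List.all_eq_true] at this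
    obtain ⟨⟨⟨h1, h2⟩, h3⟩, h4⟩ := this
    refine ⟨h1, ?_, ?_, ?_⟩
    · intro e
      rw [e] at h2
      simp at h2
    · intro e
      rw [FD.neg_eq' hA r hr] at e
      rw [e] at h3
      simp at h3
    · intro c hc
      rw [FD.commTerms_eq hA r s hr h1] at hc
      exact (memb_iff _ _).1 (h4 c hc)

/-- the check that a list is a good order, avoids `± p`, and is stable under the commutator
formula with `± p` and under the reflection -/
def listOKb (T : FD) (B p : ℕ) (M : List ℕ) : Bool :=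
  goodb T M && M.all fun a => !Nat.beq a p && !Nat.beq a (T.neg p) &&
    ((T.commTerms p a).all fun c => memb c.1 M) &&
    ((T.commTerms (T.neg p) a).all fun c => memb c.1 M) && memb (wOf B a) M

/-- the properties of such a list -/
structure ListOK (D : ChevalleyDatum) (B p : ℕ) (M : List ℕ) : Prop where
  good : GoodL D M
  ne : ∀ a ∈ M, a ≠ p ∧ a ≠ D.neg p
  termsP : ∀ a ∈ M, ∀ c ∈ D.commTerms p a, c.1 ∈ M
  termsQ : ∀ a ∈ M, ∀ c ∈ D.commTerms (D.neg p) a, c.1 ∈ M
  refl : ∀ a ∈ M, wOf B a ∈ M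

theorem listOK_of_check {T : FD} {D : ChevalleyDatum} (hA : T.Agrees D) (B p : ℕ)
    (hp : p < D.nroots) (M : List ℕ) (h : listOKb T B p M = true) : ListOK D B p M := by
  rw [listOKb, Bool.and_eq_true, List.all_eq_true] at h
  obtain ⟨hg, hM⟩ := h
  have hgood := goodL_of_check hA M hg
  have hq : D.neg p = T.neg p := FD.neg_eq' hA p hp
  have hqlt : T.neg p < D.nroots := hA.neg_lt p hp
  have key : ∀ a ∈ M, (a ≠ p ∧ a ≠ T.neg p) ∧ (∀ c ∈ T.commTerms p a, c.1 ∈ M) ∧
      (∀ c ∈ T.commTerms (T.neg p) a, c.1 ∈ M) ∧ wOf B a ∈ M := by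
    intro a ha
    have := hM a ha
    rw [Bool.and_eq_true, Bool.and_eq_true, Bool.and_eq_true, Bool.and_eq_true, List.all_eq_true,
      List.all_eq_true] at this
    obtain ⟨⟨⟨⟨h1, h2⟩, h3⟩, h4⟩, h5⟩ := this
    refine ⟨⟨?_, ?_⟩, fun c hc => (memb_iff _ _).1 (h3 c hc), fun c hc => (memb_iff _ _).1 (h4 c hc),
      (memb_iff _ _).1 h5⟩
    · intro e
      rw [e] at h1
      simp at h1
    · intro e
      rw [e] at h2
      simp at h2
  refine ⟨hgood, ?_, ?_, ?_, ?_⟩
  · intro a ha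
    rw [hq]
    exact (key a ha).1
  · intro a ha c hc
    rw [FD.commTerms_eq hA p a hp (RData.goodL_lt hgood a ha)] at hc
    exact (key a ha).2.1 c hc
  · intro a ha c hc
    rw [hq, FD.commTerms_eq hA _ a hqlt (RData.goodL_lt hgood a ha)] at hc
    exact (key a ha).2.2.1 c hc
  · intro a ha
    exact (key a ha).2.2.2

/-- the positive roots other than `p`, in increasing order -/
def posNot (D : ChevalleyDatum) (p : ℕ) : List ℕ := (posL D).filter fun r => !Nat.beq r p

theorem mem_posNot {D : ChevalleyDatum} (hn : D.nroots % 2 = 0) (p r : ℕ) :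
    r ∈ posNot D p ↔ (D.nroots / 2 ≤ r ∧ r < D.nroots) ∧ r ≠ p := by
  unfold posNot
  rw [List.mem_filter, mem_posL hn]
  constructor
  · rintro ⟨h1, h2⟩
    refine ⟨h1, fun e => ?_⟩
    rw [e] at h2
    simp at h2
  · rintro ⟨h1, h2⟩
    refine ⟨h1, ?_⟩
    rw [Bool.not_eq_true']
    by_contra hc
    rw [Bool.not_eq_false, FD.nbeq] at hc
    exact h2 hc

/-- splitting a list of terms at the first term of a given root -/
def splitTerm (p : ℕ) : List (ℕ × ℤ × ℕ × ℕ) → Option (List (ℕ × ℤ × ℕ × ℕ) × (ℕ × ℤ × ℕ × ℕ) × List (ℕ × ℤ × ℕ × ℕ))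
  | [] => none
  | c :: L => cond (Nat.beq c.1 p) (some ([], c, L))
      (match splitTerm p L with
        | none => none
        | some (pre, d, post) => some (c :: pre, d, post))

theorem splitTerm_spec (p : ℕ) : ∀ (L : List (ℕ × ℤ × ℕ × ℕ)) pre d post,
    splitTerm p L = some (pre, d, post) → L = pre ++ d :: post ∧ d.1 = p
  | [], pre, d, post, h => by simp [splitTerm] at h
  | c :: L, pre, d, post, h => by
    rw [splitTerm] at h
    by_cases hc : Nat.beq c.1 p = true
    · rw [hc, cond_true, Option.some.injEq, Prod.mk.injEq, Prod.mk.injEq] at h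
      obtain ⟨rfl, rfl, rfl⟩ := h
      exact ⟨rfl, FD.nbeq.1 hc⟩
    · rw [Bool.not_eq_true] at hc
      rw [hc, cond_false] at h
      cases hs : splitTerm p L with
      | none => rw [hs] at h; simp at h
      | some x =>
        obtain ⟨pre', d', post'⟩ := x
        rw [hs] at h
        simp only [Option.some.injEq, Prod.mk.injEq] at h
        obtain ⟨rfl, rfl, rfl⟩ := h
        obtain ⟨e1, e2⟩ := splitTerm_spec p L pre' d' post' hs
        exact ⟨by rw [e1]; rfl, e2⟩

/-- positive root other than `p` -/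
def okRoot (n p c : ℕ) : Bool := Nat.ble (Nat.div n 2) c && Nat.blt c n && !Nat.beq c p

theorem okRoot_iff (n p c : ℕ) : okRoot n p c = true ↔ (n / 2 ≤ c ∧ c < n) ∧ c ≠ p := by
  unfold okRoot
  rw [Bool.and_eq_true, Bool.and_eq_true, Nat.ble_eq, Nat.blt_eq]
  constructor
  · rintro ⟨⟨h1, h2⟩, h3⟩
    refine ⟨⟨h1, h2⟩, fun e => ?_⟩
    rw [e] at h3
    simp at h3
  · rintro ⟨⟨h1, h2⟩, h3⟩
    refine ⟨⟨h1, h2⟩, ?_⟩
    rw [Bool.not_eq_true']
    by_contra hc
    rw [Bool.not_eq_false, FD.nbeq] at hc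
    exact h3 hc

/-- the check of the data for the conjugation of `X_p` by `n_p`: roots `a`, `b` with `p` a term of
the commutator formula of `(a, b)` with coefficient `± 1` and exponents `(1, j)` -/
def pmOKb (T : FD) (B p a b : ℕ) : Bool :=
  forceNat T.nroots fun n => forceNat (T.neg p) fun q =>
  forceNat (wOf B a) fun a' => forceNat (wOf B b) fun b' =>
    Nat.blt a n && Nat.blt b n && !Nat.beq b a && !Nat.beq b (T.neg a) &&
    !Nat.beq a p && !Nat.beq a q && !Nat.beq b p && !Nat.beq b q &&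
    Nat.blt a' n && Nat.blt b' n && !Nat.beq b' a' && !Nat.beq b' (T.neg a') &&
    (match splitTerm p (T.commTerms a b) with
      | none => false
      | some (pre, c, post) =>
        (zbeq c.2.1 1 || zbeq c.2.1 (-1)) && Nat.beq c.2.2.1 1 &&
          (pre.all fun d => okRoot n p d.1) && (post.all fun d => okRoot n p d.1)) &&
    (match splitTerm q (T.commTerms a' b') with
      | none => false
      | some (pre, _, post) =>
          (pre.all fun d => okRoot n p d.1) && (post.all fun d => okRoot n p d.1))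

/-- the properties of the data -/
structure PmOK (D : ChevalleyDatum) (B p a b : ℕ) : Prop where
  ha : a < D.nroots
  hb : b < D.nroots
  hba : b ≠ a
  hbna : b ≠ D.neg a
  hap : a ≠ p
  haq : a ≠ D.neg p
  hbp : b ≠ p
  hbq : b ≠ D.neg p
  ha' : wOf B a < D.nroots
  hb' : wOf B b < D.nroots
  hba' : wOf B b ≠ wOf B a
  hbna' : wOf B b ≠ D.neg (wOf B a)
  split : ∃ pre c post, D.commTerms a b = pre ++ c :: post ∧ c.1 = p ∧
    (c.2.1 = 1 ∨ c.2.1 = -1) ∧ c.2.2.1 = 1 ∧
    (∀ d ∈ pre, (D.nroots / 2 ≤ d.1 ∧ d.1 < D.nroots) ∧ d.1 ≠ p) ∧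
    (∀ d ∈ post, (D.nroots / 2 ≤ d.1 ∧ d.1 < D.nroots) ∧ d.1 ≠ p)
  split' : ∃ pre c post, D.commTerms (wOf B a) (wOf B b) = pre ++ c :: post ∧ c.1 = D.neg p ∧
    (∀ d ∈ pre, (D.nroots / 2 ≤ d.1 ∧ d.1 < D.nroots) ∧ d.1 ≠ p) ∧
    (∀ d ∈ post, (D.nroots / 2 ≤ d.1 ∧ d.1 < D.nroots) ∧ d.1 ≠ p)

theorem bne_of {a b : ℕ} (h : (!Nat.beq a b) = true) : a ≠ b := by
  intro e
  rw [e] at h
  simp at h

theorem pmOK_of_check {T : FD} {D : ChevalleyDatum} (hA : T.Agrees D) (B p a b : ℕ)
    (hp : p < D.nroots) (h : pmOKb T B p a b = true) : PmOK D B p a b := by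
  unfold pmOKb at h
  rw [forceNat_eq, forceNat_eq, forceNat_eq, forceNat_eq, hA.nroots_eq] at h
  simp only [Bool.and_eq_true, Nat.blt_eq] at h
  obtain ⟨⟨⟨⟨⟨⟨⟨⟨⟨⟨⟨⟨⟨h1, h2⟩, h3⟩, h4⟩, h5⟩, h6⟩, h7⟩, h8⟩, h9⟩, h10⟩, h11⟩, h12⟩, h13⟩, h14⟩ := h
  have hq : D.neg p = T.neg p := FD.neg_eq' hA p hp
  have hna : D.neg a = T.neg a := FD.neg_eq' hA a h1
  have hna' : D.neg (wOf B a) = T.neg (wOf B a) := FD.neg_eq' hA _ h9
  refine ⟨h1, h2, bne_of h3, by rw [hna]; exact bne_of h4, bne_of h5, by rw [hq]; exact bne_of h6,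
    bne_of h7, by rw [hq]; exact bne_of h8, h9, h10, bne_of h11, by rw [hna']; exact bne_of h12,
    ?_, ?_⟩
  · rw [FD.commTerms_eq hA a b h1 h2]
    cases hs : splitTerm p (T.commTerms a b) with
    | none => rw [hs] at h13; simp at h13
    | some x =>
      obtain ⟨pre, c, post⟩ := x
      rw [hs] at h13
      simp only [Bool.and_eq_true, Bool.or_eq_true, zbeq_iff, FD.nbeq, List.all_eq_true] at h13
      obtain ⟨⟨⟨hc1, hc2⟩, hpre⟩, hpost⟩ := h13
      obtain ⟨e1, e2⟩ := splitTerm_spec p _ pre c post hs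
      exact ⟨pre, c, post, e1, e2, hc1, hc2, fun d hd => (okRoot_iff _ _ _).1 (hpre d hd),
        fun d hd => (okRoot_iff _ _ _).1 (hpost d hd)⟩
  · rw [FD.commTerms_eq hA _ _ h9 h10]
    cases hs : splitTerm (T.neg p) (T.commTerms (wOf B a) (wOf B b)) with
    | none => rw [hs] at h14; simp at h14
    | some x =>
      obtain ⟨pre, c, post⟩ := x
      rw [hs] at h14
      simp only [Bool.and_eq_true, List.all_eq_true] at h14
      obtain ⟨hpre, hpost⟩ := h14
      obtain ⟨e1, e2⟩ := splitTerm_spec _ _ pre c post hs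
      exact ⟨pre, c, post, e1, by rw [hq]; exact e2, fun d hd => (okRoot_iff _ _ _).1 (hpre d hd),
        fun d hd => (okRoot_iff _ _ _).1 (hpost d hd)⟩

end Cfsg.Agent.Lib.Helper5.St
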