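import Cfsg.Agent.Lib.Helper5.St.GConj
import Cfsg.Agent.Lib.Helper5.Chev.W0All
import Cfsg.Agent.Lib.Helper5.Chev.HsE7
import Mathlib

/-!
# The checks on the fundamental roots for the presentation, type E7, part 1 (helper5)
-/

set_option autoImplicit false
set_option maxRecDepth 1000000

namespace Cfsg.Agent.Lib.Helper5.St.CkE7

open Cfsg.Lie Cfsg.Agent.Lib.Helper5.Chev Cfsg.Agent.Lib.Helper5.Tw Cfsg.Agent.Lib.Helper5.St

theorem good : goodb DataE7.fd (posL chevE7) = true := by decide +kernel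

theorem f0 : factsb DataE7.fd (BsE7.Bs.getD 0 0) (DataE7.fd.simple 0) = true := by decide +kernel
theorem p0 : listOKb DataE7.fd (BsE7.Bs.getD 0 0) (DataE7.fd.simple 0) (posNot chevE7 (DataE7.fd.simple 0)) = true := by
  decide +kernel
theorem n0 : listOKb DataE7.fd (BsE7.Bs.getD 0 0) (DataE7.fd.simple 0)
    ((posNot chevE7 (DataE7.fd.simple 0)).map (wW BsE7.Bs w0E7)) = true := by decide +kernel
theorem c0 : coverb DataE7.fd (DataE7.fd.simple 0)
    ((posNot chevE7 (DataE7.fd.simple 0)).map (wW BsE7.Bs w0E7)) = true := by decide +kernel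
theorem m0 : pmOKb DataE7.fd (BsE7.Bs.getD 0 0) (DataE7.fd.simple 0) 1 125 = true := by decide +kernel

theorem f1 : factsb DataE7.fd (BsE7.Bs.getD 1 0) (DataE7.fd.simple 1) = true := by decide +kernel
theorem p1 : listOKb DataE7.fd (BsE7.Bs.getD 1 0) (DataE7.fd.simple 1) (posNot chevE7 (DataE7.fd.simple 1)) = true := by
  decide +kernel
theorem n1 : listOKb DataE7.fd (BsE7.Bs.getD 1 0) (DataE7.fd.simple 1)
    ((posNot chevE7 (DataE7.fd.simple 1)).map (wW BsE7.Bs w0E7)) = true := by decide +kernel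
theorem c1 : coverb DataE7.fd (DataE7.fd.simple 1)
    ((posNot chevE7 (DataE7.fd.simple 1)).map (wW BsE7.Bs w0E7)) = true := by decide +kernel
theorem m1 : pmOKb DataE7.fd (BsE7.Bs.getD 1 0) (DataE7.fd.simple 1) 7 122 = true := by decide +kernel

theorem f2 : factsb DataE7.fd (BsE7.Bs.getD 2 0) (DataE7.fd.simple 2) = true := by decide +kernel
theorem p2 : listOKb DataE7.fd (BsE7.Bs.getD 2 0) (DataE7.fd.simple 2) (posNot chevE7 (DataE7.fd.simple 2)) = true := by
  decide +kernel
theorem n2 : listOKb DataE7.fd (BsE7.Bs.getD 2 0) (DataE7.fd.simple 2)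
    ((posNot chevE7 (DataE7.fd.simple 2)).map (wW BsE7.Bs w0E7)) = true := by decide +kernel
theorem c2 : coverb DataE7.fd (DataE7.fd.simple 2)
    ((posNot chevE7 (DataE7.fd.simple 2)).map (wW BsE7.Bs w0E7)) = true := by decide +kernel
theorem m2 : pmOKb DataE7.fd (BsE7.Bs.getD 2 0) (DataE7.fd.simple 2) 2 124 = true := by decide +kernel

theorem f3 : factsb DataE7.fd (BsE7.Bs.getD 3 0) (DataE7.fd.simple 3) = true := by decide +kernel
theorem p3 : listOKb DataE7.fd (BsE7.Bs.getD 3 0) (DataE7.fd.simple 3) (posNot chevE7 (DataE7.fd.simple 3)) = true := by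
  decide +kernel
theorem n3 : listOKb DataE7.fd (BsE7.Bs.getD 3 0) (DataE7.fd.simple 3)
    ((posNot chevE7 (DataE7.fd.simple 3)).map (wW BsE7.Bs w0E7)) = true := by decide +kernel
theorem c3 : coverb DataE7.fd (DataE7.fd.simple 3)
    ((posNot chevE7 (DataE7.fd.simple 3)).map (wW BsE7.Bs w0E7)) = true := by decide +kernel
theorem m3 : pmOKb DataE7.fd (BsE7.Bs.getD 3 0) (DataE7.fd.simple 3) 3 123 = true := by decide +kernel

end Cfsg.Agent.Lib.Helper5.St.CkE7
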