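import Cfsg.Agent.Lib.Helper5.St.GConj
import Cfsg.Agent.Lib.Helper5.Chev.W0All
import Cfsg.Agent.Lib.Helper5.Chev.HsE8
import Mathlib

/-!
# The checks on the fundamental roots for the presentation, type E8, part 1 (helper5)
-/

set_option autoImplicit false
set_option maxRecDepth 1000000

namespace Cfsg.Agent.Lib.Helper5.St.CkE8

open Cfsg.Lie Cfsg.Agent.Lib.Helper5.Chev Cfsg.Agent.Lib.Helper5.Tw Cfsg.Agent.Lib.Helper5.St

theorem good : goodb DataE8.fd (posL chevE8) = true := by decide +kernel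

theorem f0 : factsb DataE8.fd (BsE8.Bs.getD 0 0) (DataE8.fd.simple 0) = true := by decide +kernel
theorem p0 : listOKb DataE8.fd (BsE8.Bs.getD 0 0) (DataE8.fd.simple 0) (posNot chevE8 (DataE8.fd.simple 0)) = true := by
  decide +kernel
theorem n0 : listOKb DataE8.fd (BsE8.Bs.getD 0 0) (DataE8.fd.simple 0)
    ((posNot chevE8 (DataE8.fd.simple 0)).map (wW BsE8.Bs w0E8)) = true := by decide +kernel
theorem c0 : coverb DataE8.fd (DataE8.fd.simple 0)
    ((posNot chevE8 (DataE8.fd.simple 0)).map (wW BsE8.Bs w0E8)) = true := by decide +kernel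
theorem m0 : pmOKb DataE8.fd (BsE8.Bs.getD 0 0) (DataE8.fd.simple 0) 14 233 = true := by decide +kernel

theorem f1 : factsb DataE8.fd (BsE8.Bs.getD 1 0) (DataE8.fd.simple 1) = true := by decide +kernel
theorem p1 : listOKb DataE8.fd (BsE8.Bs.getD 1 0) (DataE8.fd.simple 1) (posNot chevE8 (DataE8.fd.simple 1)) = true := by
  decide +kernel
theorem n1 : listOKb DataE8.fd (BsE8.Bs.getD 1 0) (DataE8.fd.simple 1)
    ((posNot chevE8 (DataE8.fd.simple 1)).map (wW BsE8.Bs w0E8)) = true := by decide +kernel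
theorem c1 : coverb DataE8.fd (DataE8.fd.simple 1)
    ((posNot chevE8 (DataE8.fd.simple 1)).map (wW BsE8.Bs w0E8)) = true := by decide +kernel
theorem m1 : pmOKb DataE8.fd (BsE8.Bs.getD 1 0) (DataE8.fd.simple 1) 7 234 = true := by decide +kernel

end Cfsg.Agent.Lib.Helper5.St.CkE8
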