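import Cfsg.Agent.Lib.Helper5.St.GConj
import Cfsg.Agent.Lib.Helper5.Chev.BNAxiom
import Cfsg.Agent.Lib.Helper5.Chev.UCardAll
import Mathlib

/-!
# General facts on the seven data: the opposition, distinct root subgroups (helper5)
-/

set_option autoImplicit false

namespace Cfsg.Agent.Lib.Helper5.St

open Cfsg.Lie Cfsg.Agent.Lib.Helper5.Chev Cfsg.Agent.Lib.Helper5.Tw
open scoped Matrix

variable {K : Type*} [Field K]

theorem neg_lt_all (D : ChevalleyDatum)
    (hD : D ∈ [chevG2, chevB2, chevD4, chevF4, chevE6, chevE7, chevE8]) (r : ℕ)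
    (hr : r < D.nroots) : D.neg r < D.nroots := by
  obtain ⟨T, hA, -⟩ := tri_known D hD
  rw [FD.neg_eq' hA r hr]
  exact hA.neg_lt r hr

theorem neg_neg_all (D : ChevalleyDatum)
    (hD : D ∈ [chevG2, chevB2, chevD4, chevF4, chevE6, chevE7, chevE8]) (r : ℕ)
    (hr : r < D.nroots) : D.neg (D.neg r) = r := by
  obtain ⟨T, hA, hok, -, -⟩ := ufok_known D hD
  rw [FD.neg_eq' hA _ (neg_lt_all D hD r hr), FD.neg_eq' hA r hr]
  exact hok.neg_neg r hr

theorem even_all (D : ChevalleyDatum)
    (hD : D ∈ [chevG2, chevB2, chevD4, chevF4, chevE6, chevE7, chevE8]) : D.nroots % 2 = 0 := by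
  obtain ⟨T, hA, hok, -, h⟩ := ufok_known D hD
  exact h

theorem neg_lt_half_all (D : ChevalleyDatum)
    (hD : D ∈ [chevG2, chevB2, chevD4, chevF4, chevE6, chevE7, chevE8]) (r : ℕ)
    (hr : r < D.nroots) (h : D.nroots / 2 ≤ r) : D.neg r < D.nroots / 2 := by
  obtain ⟨T, hA, htri⟩ := tri_known D hD
  have hpos := (pos_iff_all D hD r hr).2 h
  have := ((htri r hr).1 hpos).2.1
  rw [hA.nroots_eq, ← FD.neg_eq' hA r hr] at this
  exact this

theorem neg_ne_all (D : ChevalleyDatum)
    (hD : D ∈ [chevG2, chevB2, chevD4, chevF4, chevE6, chevE7, chevE8]) (r : ℕ)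
    (hr : r < D.nroots) : D.neg r ≠ r := by
  intro e
  by_cases h : D.nroots / 2 ≤ r
  · have := neg_lt_half_all D hD r hr h
    omega
  · have := neg_ge_half_all D hD r hr (by omega)
    omega

/-- root elements of distinct roots with a non-trivial parameter are distinct -/
theorem xU_root_eq (D : ChevalleyDatum)
    (hD : D ∈ [chevG2, chevB2, chevD4, chevF4, chevE6, chevE7, chevE8]) (hadd : AllAdd K D)
    (s s' : ℕ) (hs : s < D.nroots) (hs' : s' < D.nroots) (c : K)
    (h : hadd.xU s 1 = hadd.xU s' c) : s = s' := by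
  by_contra hne
  have h1 : D.x K s 1 = D.x K s' c := congrArg Units.val h
  rw [x_eq_xMat s hs, x_eq_xMat s' hs'] at h1
  have hq := neg_lt_all D hD s hs
  have hqne := neg_ne_all D hD s hs
  have key : ∀ i < D.rank, (((D.coroot.getD s #[]).getD i 0 : ℤ) : K) * 1 = 0 := by
    intro i hi
    have h2 := congrFun (congrFun h1 (Sum.inl ⟨i, hi⟩)) (Sum.inr ⟨D.neg s, hq⟩)
    unfold ChevalleyDatum.xMat at h2
    simp only [Matrix.of_apply] at h2
    rw [if_neg (by intro he; exact hqne (Fin.mk.inj_iff.1 he)),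
      if_pos (show D.neg s = D.negIdx.getD s 0 from rfl)] at h2
    by_cases h3 : (⟨D.neg s, hq⟩ : Fin D.nroots) = ⟨s', hs'⟩
    · rw [if_pos h3] at h2
      exact h2
    · rw [if_neg h3, if_neg] at h2
      · exact h2
      · intro he
        apply hne
        have he' : D.neg s = D.neg s' := he
        rw [← neg_neg_all D hD s hs, he', neg_neg_all D hD s' hs']
  have := corInj_all (F := K) D hD s hs 1 key
  exact one_ne_zero this

end Cfsg.Agent.Lib.Helper5.St
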