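import Cfsg.Agent.Lib.Helper5.St.RData
import Cfsg.Agent.Lib.Helper5.Chev.UProd
import Cfsg.Agent.Lib.Helper5.Chev.Longest
import Mathlib

/-!
# Uniqueness of ordered products of root elements in the matrix group (helper5)
-/

set_option autoImplicit false

namespace Cfsg.Agent.Lib.Helper5.St

open Cfsg.Lie Cfsg.Agent.Lib.Helper5.Chev Cfsg.Agent.Lib.Helper5.Tw

variable {K : Type*} [Field K] {D : ChevalleyDatum} {T : FD}

open RData

/-- the positive roots in increasing order -/
def posL (D : ChevalleyDatum) : List ℕ := List.range' (D.nroots / 2) (D.nroots / 2)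

theorem mem_posL (hn : D.nroots % 2 = 0) (r : ℕ) : r ∈ posL D ↔ D.nroots / 2 ≤ r ∧ r < D.nroots := by
  unfold posL
  rw [List.mem_range'_1]
  omega

/-- uniqueness for the increasing order of all positive roots -/
theorem injL_posL (hD : D ∈ [chevG2, chevB2, chevD4, chevF4, chevE6, chevE7, chevE8])
    (hadd : AllAdd K D) : InjL K D hadd (posL D) := by
  obtain ⟨T, hA, hok, htri, heven⟩ := ufok_known D hD
  have hcor := corInj_all (F := K) D hD
  have hinj := xInj_all (F := K) D hD
  intro t t' e r hr
  rw [mem_posL heven] at hr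
  have hsum : D.nroots / 2 + D.nroots / 2 = D.nroots := by omega
  exact wordOf_injective hA hadd hok htri hcor hinj (D.nroots / 2) (D.nroots / 2) (le_refl _) hsum
    t t' e r hr.1 hr.2

/-- dropping the factors with parameter zero -/
theorem wordU_filter (hadd : AllAdd K D) (P : ℕ → Bool) (t : ℕ → K) :
    ∀ L : List ℕ, (∀ r ∈ L, P r = false → t r = 0) →
      hadd.wordU (wordL (L.filter P) t) = hadd.wordU (wordL L t)
  | [], _ => rfl
  | a :: L, h => by
    have ih := wordU_filter hadd P t L (fun r hr => h r (List.mem_cons_of_mem _ hr))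
    by_cases hP : P a = true
    · rw [List.filter_cons_of_pos hP]
      show hadd.wordU ((a, t a) :: wordL (L.filter P) t) = hadd.wordU ((a, t a) :: wordL L t)
      rw [wordU_cons, wordU_cons, ih]
    · rw [List.filter_cons_of_neg hP]
      show _ = hadd.wordU ((a, t a) :: wordL L t)
      rw [wordU_cons, ih, h a List.mem_cons_self (by simpa using hP)]
      have : hadd.xU a 0 = 1 := Units.ext (x_zero a)
      rw [this, one_mul]

/-- uniqueness for an increasing sublist of the positive roots -/
theorem injL_filter (hD : D ∈ [chevG2, chevB2, chevD4, chevF4, chevE6, chevE7, chevE8])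
    (hadd : AllAdd K D) (P : ℕ → Bool) : InjL K D hadd ((posL D).filter P) := by
  intro t t' e r hr
  rw [List.mem_filter] at hr
  let s : ℕ → K := fun r => if P r = true then t r else 0
  let s' : ℕ → K := fun r => if P r = true then t' r else 0
  have e1 : hadd.wordU (wordL ((posL D).filter P) t) = hadd.wordU (wordL (posL D) s) := by
    have h1 : wordL ((posL D).filter P) t = wordL ((posL D).filter P) s := by
      apply wordL_congr
      intro a ha
      rw [List.mem_filter] at ha
      show t a = if P a = true then t a else 0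
      rw [if_pos ha.2]
    rw [h1]
    apply wordU_filter
    intro a _ hPa
    show (if P a = true then t a else 0) = 0
    rw [if_neg (by simp [hPa])]
  have e2 : hadd.wordU (wordL ((posL D).filter P) t') = hadd.wordU (wordL (posL D) s') := by
    have h1 : wordL ((posL D).filter P) t' = wordL ((posL D).filter P) s' := by
      apply wordL_congr
      intro a ha
      rw [List.mem_filter] at ha
      show t' a = if P a = true then t' a else 0
      rw [if_pos ha.2]
    rw [h1]
    apply wordU_filter
    intro a _ hPa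
    show (if P a = true then t' a else 0) = 0
    rw [if_neg (by simp [hPa])]
  have := injL_posL hD hadd s s' (by rw [← e1, ← e2, e]) r hr.1
  simpa [s, s', hr.2] using this

/-- conjugation of a root element by a word of the `n_i`: linear in the parameter -/
theorem conj_word_lin (hA : T.Agrees D) (hadd : AllAdd K D) (Bs : List ℕ)
    (hB : ∀ i < D.rank, ReflChecks T D i (Bs.getD i 0)) (L : List ℕ) (hL : ∀ i ∈ L, i < D.rank)
    (s : ℕ) (hs : s < D.nroots) :
    wW Bs L s < D.nroots ∧ ∃ ε : K, ε * ε = 1 ∧ ∀ t : K,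
      nWordU hA hadd L * hadd.xU s t * (nWordU hA hadd L)⁻¹ = hadd.xU (wW Bs L s) (ε * t) := by
  induction L with
  | nil =>
    refine ⟨hs, 1, by simp, fun t => ?_⟩
    simp [nWordU, wW]
  | cons i L ih =>
    have hi := hL i List.mem_cons_self
    obtain ⟨h1, ε, hε, h2⟩ := ih (fun j hj => hL j (List.mem_cons_of_mem _ hj))
    have hcert := (hB i hi).cert hA
    refine ⟨hcert.w_lt _ h1, ((etaOf (Bs.getD i 0) (wW Bs L s) : ℤ) : K) * ε, ?_, fun t => ?_⟩
    · have := hcert.eta_sq (F := K) _ h1
      calc ((etaOf (Bs.getD i 0) (wW Bs L s) : ℤ) : K) * ε * (((etaOf (Bs.getD i 0) (wW Bs L s) : ℤ) : K) * ε)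
          = (((etaOf (Bs.getD i 0) (wW Bs L s) : ℤ) : K) * ((etaOf (Bs.getD i 0) (wW Bs L s) : ℤ) : K)) * (ε * ε) := by ring
        _ = 1 := by rw [this, hε, one_mul]
    · have e : nWordU hA hadd (i :: L) = nUi hA hadd i * nWordU hA hadd L := by
        simp [nWordU]
      rw [e, mul_inv_rev]
      calc nUi hA hadd i * nWordU hA hadd L * hadd.xU s t * ((nWordU hA hadd L)⁻¹ * (nUi hA hadd i)⁻¹)
          = nUi hA hadd i * (nWordU hA hadd L * hadd.xU s t * (nWordU hA hadd L)⁻¹) *
              (nUi hA hadd i)⁻¹ := by group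
        _ = _ := by
          rw [h2, conjU hA hadd hi (hB i hi) _ h1, mul_assoc]
          rfl

/-- transport of the uniqueness along a word of the Weyl group -/
theorem injL_map (hA : T.Agrees D) (hadd : AllAdd K D) (Bs : List ℕ)
    (hB : ∀ i < D.rank, ReflChecks T D i (Bs.getD i 0)) (Lw : List ℕ) (hLw : ∀ i ∈ Lw, i < D.rank)
    (L : List ℕ) (hL : ∀ r ∈ L, r < D.nroots) (h : InjL K D hadd L) :
    InjL K D hadd (L.map (wW Bs Lw)) := by
  classical
  have hex : ∀ r : ℕ, ∃ ε : K, ε * ε = 1 ∧ (r < D.nroots → ∀ t : K,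
      nWordU hA hadd Lw * hadd.xU r t * (nWordU hA hadd Lw)⁻¹ = hadd.xU (wW Bs Lw r) (ε * t)) := by
    intro r
    by_cases hr : r < D.nroots
    · obtain ⟨-, ε, hε, h2⟩ := conj_word_lin hA hadd Bs hB Lw hLw r hr
      exact ⟨ε, hε, fun _ => h2⟩
    · exact ⟨1, by simp, fun h => absurd h hr⟩
  choose ε hε hconj using hex
  set n := nWordU hA hadd Lw with hn
  have key : ∀ (t : ℕ → K) (M : List ℕ), (∀ r ∈ M, r < D.nroots) →
      hadd.wordU (wordL (M.map (wW Bs Lw)) t)
        = n * hadd.wordU (wordL M fun r => ε r * t (wW Bs Lw r)) * n⁻¹ := by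
    intro t M
    induction M with
    | nil =>
      intro _
      show (1 : GL D.Idx K) = n * 1 * n⁻¹
      simp
    | cons a M ih =>
      intro hM
      have ha := hM a List.mem_cons_self
      show hadd.wordU ((wW Bs Lw a, t (wW Bs Lw a)) :: wordL (M.map (wW Bs Lw)) t)
        = n * hadd.wordU ((a, ε a * t (wW Bs Lw a)) :: wordL M _) * n⁻¹
      rw [wordU_cons, wordU_cons, ih (fun r hr => hM r (List.mem_cons_of_mem _ hr))]
      have := hconj a ha (ε a * t (wW Bs Lw a))
      rw [← mul_assoc, hε a, one_mul] at this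
      rw [← this]
      group
  intro t t' e r hr
  rw [key t L hL, key t' L hL] at e
  have e' := mul_left_cancel (mul_right_cancel e)
  rw [List.mem_map] at hr
  obtain ⟨a, ha, rfl⟩ := hr
  have h3 := h _ _ e' a ha
  have h4 : ε a * (ε a * t (wW Bs Lw a)) = ε a * (ε a * t' (wW Bs Lw a)) := by rw [h3]
  rw [← mul_assoc, ← mul_assoc, hε a, one_mul, one_mul] at h4
  exact h4

end Cfsg.Agent.Lib.Helper5.St
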