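import Cfsg.Agent.Lib.Helper5.St.WeylRelP
import Cfsg.Agent.Lib.Helper5.St.GInj
import Cfsg.Agent.Lib.Helper5.Chev.DiagProd
import Cfsg.Agent.Lib.Helper5.Chev.RcAll
import Mathlib

/-!
# The facts on a fundamental root from boolean checks (helper5)
-/

set_option autoImplicit false

namespace Cfsg.Agent.Lib.Helper5.St

open Cfsg.Lie Cfsg.Agent.Lib.Helper5.Chev Cfsg.Agent.Lib.Helper5.Tw
open scoped Matrix

variable {K : Type*} [Field K] {T : FD} {D : ChevalleyDatum}

theorem nMat_neg_one_eq (p : ℕ) : D.nMat K p (-1) = nInv K D p := by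
  unfold ChevalleyDatum.nMat ChevalleyDatum.nWord ChevalleyDatum.wordMat nInv
  simp [inv_neg]

theorem nMat_split (hD : D ∈ [chevG2, chevB2, chevD4, chevF4, chevE6, chevE7, chevE8])
    (i : ℕ) (hi : i < D.rank) (τ : K) (hτ : τ ≠ 0) :
    D.nMat K (D.simple i) τ = dK K D (D.cartan i) τ * D.nMat K (D.simple i) 1 := by
  have hadd := allAdd_all (F := K) D hD
  obtain ⟨hp, hq⟩ := simple_lt_all D hD i hi
  have h1 : D.nMat K (D.simple i) τ * D.nMat K (D.simple i) (-1) = dK K D (D.cartan i) τ := by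
    rw [← hMat_eq, hMat_simple_all D hD i hi τ hτ]
  have h2 : D.nMat K (D.simple i) (-1) * D.nMat K (D.simple i) 1 = 1 := by
    rw [nMat_neg_one_eq]
    exact nInv_mul_nMat (hadd _ hp) (hadd _ hq)
  calc D.nMat K (D.simple i) τ
      = D.nMat K (D.simple i) τ * (D.nMat K (D.simple i) (-1) * D.nMat K (D.simple i) 1) := by
        rw [h2, Matrix.mul_one]
    _ = _ := by rw [← Matrix.mul_assoc, h1]

/-- conjugation of the root elements by `n_i(τ)` in the Chevalley group -/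
theorem gconj_simple (hD : D ∈ [chevG2, chevB2, chevD4, chevF4, chevE6, chevE7, chevE8])
    (hA : T.Agrees D) (hadd : AllAdd K D) {i B : ℕ} (hi : i < D.rank) (c : ReflChecks T D i B)
    (τ : K) (hτ : τ ≠ 0) (s : ℕ) (hs : s < D.nroots) :
    ∃ c' : K, c' ≠ 0 ∧ ∀ u : K,
      hadd.wordU (D.nWord (D.simple i) τ) * hadd.xU s u * (hadd.wordU (D.nWord (D.simple i) τ))⁻¹
        = hadd.xU (wOf B s) (c' * u) := by
  have hη : ((etaOf B s : ℤ) : K) ≠ 0 := by
    rcases etaOf_pm B s with h | h <;> rw [h] <;> simp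
  have hws := (c.cert hA).w_lt s hs
  refine ⟨τ ^ (D.cartan i (wOf B s)) * ((etaOf B s : ℤ) : K),
    mul_ne_zero (zpow_ne_zero _ hτ) hη, fun u => ?_⟩
  rw [mul_inv_eq_iff_eq_mul]
  apply Units.ext
  rw [Units.val_mul, Units.val_mul, hadd.wordU_val, hadd.xU_val, hadd.xU_val]
  change D.nMat K (D.simple i) τ * D.x K s u = D.x K (wOf B s) _ * D.nMat K (D.simple i) τ
  rw [nMat_split hD i hi τ hτ, Matrix.mul_assoc, c.conj_x hA hi s hs u, ← Matrix.mul_assoc]
  unfold dK
  rw [diag_conj_x_all D hD i hi τ hτ (wOf B s) hws, Matrix.mul_assoc, mul_assoc]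

/-- the elementary facts on `p`, its negative and the reflection -/
def factsb (T : FD) (B p : ℕ) : Bool :=
  forceNat T.nroots fun n => forceNat (T.neg p) fun q =>
    Nat.beq (T.neg q) p && Nat.ble (Nat.div n 2) p && Nat.blt q (Nat.div n 2) &&
      Nat.beq (Nat.mod n 2) 0 && Nat.beq (wOf B p) q && Nat.beq (wOf B q) p

theorem factsb_spec (hA : T.Agrees D) (B p : ℕ) (hp : p < D.nroots) (h : factsb T B p = true) :
    D.neg (D.neg p) = p ∧ D.nroots / 2 ≤ p ∧ D.neg p < D.nroots / 2 ∧ D.nroots % 2 = 0 ∧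
      wOf B p = D.neg p ∧ wOf B (D.neg p) = p := by
  unfold factsb at h
  rw [forceNat_eq, forceNat_eq, hA.nroots_eq] at h
  simp only [Bool.and_eq_true, FD.nbeq, Nat.ble_eq, Nat.blt_eq] at h
  obtain ⟨⟨⟨⟨⟨h1, h2⟩, h3⟩, h4⟩, h5⟩, h6⟩ := h
  have hq : D.neg p < D.nroots := by
    rw [FD.neg_eq' hA p hp]; exact hA.neg_lt p hp
  refine ⟨?_, h2, ?_, h4, ?_, ?_⟩
  · rw [FD.neg_eq' hA _ hq, FD.neg_eq' hA p hp]; exact h1
  · rw [FD.neg_eq' hA p hp]; exact h3
  · rw [FD.neg_eq' hA p hp]; exact h5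
  · rw [FD.neg_eq' hA p hp]; exact h6

/-- the list covers all negative roots other than `-p` -/
def coverb (T : FD) (p : ℕ) (M : List ℕ) : Bool :=
  forceNat T.nroots fun n => forceNat (T.neg p) fun q =>
    allBelow (Nat.div n 2) fun s => Nat.beq s q || memb s M

theorem coverb_spec (hA : T.Agrees D) (p : ℕ) (hp : p < D.nroots) (M : List ℕ)
    (h : coverb T p M = true) : ∀ s < D.nroots / 2, s ≠ D.neg p → s ∈ M := by
  unfold coverb at h
  rw [forceNat_eq, forceNat_eq, hA.nroots_eq] at h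
  intro s hs hne
  have := allBelow_spec _ _ h s hs
  rw [Bool.or_eq_true, FD.nbeq, memb_iff] at this
  rcases this with h1 | h1
  · exact absurd (by rw [FD.neg_eq' hA p hp]; exact h1) hne
  · exact h1

/-- all the facts on the fundamental root `p_i` from the boolean checks -/
theorem sfacts_of_checks (hD : D ∈ [chevG2, chevB2, chevD4, chevF4, chevE6, chevE7, chevE8])
    (hA : T.Agrees D) (hadd : AllAdd K D) (Bs : List ℕ)
    (hB : ∀ i < D.rank, ReflChecks T D i (Bs.getD i 0)) (w0 : List ℕ)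
    (hw0 : ∀ i ∈ w0, i < D.rank) (i j a b : ℕ) (hi : i < D.rank)
    (h1 : factsb T (Bs.getD i 0) (T.simple i) = true)
    (h2 : listOKb T (Bs.getD i 0) (T.simple i) (posNot D (T.simple i)) = true)
    (h3 : listOKb T (Bs.getD i 0) (T.simple i)
      ((posNot D (T.simple j)).map (wW Bs w0)) = true)
    (h4 : coverb T (T.simple i) ((posNot D (T.simple j)).map (wW Bs w0)) = true)
    (h5 : pmOKb T (Bs.getD i 0) (T.simple i) a b = true) :
    SFacts K D hadd (Bs.getD i 0) (D.simple i) := by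
  have hp := simple_lt' hA hi
  have hq := neg_simple_lt' hA hi
  rw [← FD.simple_eq' hA i hi] at h1 h2 h3 h4 h5
  obtain ⟨f1, f2, f3, f4, f5, f6⟩ := factsb_spec hA _ _ hp h1
  refine ⟨hp, hq, f1, f2, f3, f4, ((hB i hi).cert hA).w_lt, f5, f6,
    listOK_of_check hA _ _ hp _ h2, ⟨_, listOK_of_check hA _ _ hp _ h3, ?_,
      coverb_spec hA _ hp _ h4⟩, ⟨a, b, pmOK_of_check hA _ _ a b hp h5⟩,
    fun τ hτ s hs => gconj_simple hD hA hadd hi (hB i hi) τ hτ s hs⟩
  apply injL_map hA hadd Bs hB w0 hw0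
  · intro r hr
    rw [mem_posNot f4] at hr
    exact hr.1.2
  · exact injL_filter hD hadd _

end Cfsg.Agent.Lib.Helper5.St
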