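import Cfsg.Agent.Lib.Helper5.St.DFacts
import Mathlib

/-!
# Conjugation by `n_i(τ)` in the Chevalley group: the constants on opposite roots (helper5)
-/

set_option autoImplicit false

namespace Cfsg.Agent.Lib.Helper5.St

open Cfsg.Lie Cfsg.Agent.Lib.Helper5.Chev Cfsg.Agent.Lib.Helper5.Tw
open scoped Matrix

variable {K : Type*} [Field K] {T : FD} {D : ChevalleyDatum}

/-- conjugation of the root elements by `n_i(τ)` in the Chevalley group, with the constant -/
theorem gconj_explicit (hD : D ∈ [chevG2, chevB2, chevD4, chevF4, chevE6, chevE7, chevE8])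
    (hA : T.Agrees D) (hadd : AllAdd K D) {i B : ℕ} (hi : i < D.rank) (c : ReflChecks T D i B)
    (τ : K) (hτ : τ ≠ 0) (s : ℕ) (hs : s < D.nroots) (u : K) :
    hadd.wordU (D.nWord (D.simple i) τ) * hadd.xU s u * (hadd.wordU (D.nWord (D.simple i) τ))⁻¹
      = hadd.xU (wOf B s) (τ ^ (D.cartan i (wOf B s)) * ((etaOf B s : ℤ) : K) * u) := by
  have hws := (c.cert hA).w_lt s hs
  rw [mul_inv_eq_iff_eq_mul]
  apply Units.ext
  rw [Units.val_mul, Units.val_mul, hadd.wordU_val, hadd.xU_val, hadd.xU_val]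
  change D.nMat K (D.simple i) τ * D.x K s u = D.x K (wOf B s) _ * D.nMat K (D.simple i) τ
  rw [nMat_split hD i hi τ hτ, Matrix.mul_assoc, c.conj_x hA hi s hs u, ← Matrix.mul_assoc]
  unfold dK
  rw [diag_conj_x_all D hD i hi τ hτ (wOf B s) hws, Matrix.mul_assoc, mul_assoc]

/-- the constants on a root and its opposite are inverse to each other -/
theorem gconj_pair (hD : D ∈ [chevG2, chevB2, chevD4, chevF4, chevE6, chevE7, chevE8])
    (hA : T.Agrees D) (hadd : AllAdd K D) {i B : ℕ} (hi : i < D.rank) (c : ReflChecks T D i B)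
    (τ : K) (hτ : τ ≠ 0) (s : ℕ) (hs : s < D.nroots) :
    ∃ c' : K, c' ≠ 0 ∧
      (∀ u : K, hadd.wordU (D.nWord (D.simple i) τ) * hadd.xU s u *
        (hadd.wordU (D.nWord (D.simple i) τ))⁻¹ = hadd.xU (wOf B s) (c' * u)) ∧
      (∀ u : K, hadd.wordU (D.nWord (D.simple i) τ) * hadd.xU (D.neg s) u *
        (hadd.wordU (D.nWord (D.simple i) τ))⁻¹ = hadd.xU (D.neg (wOf B s)) (c'⁻¹ * u)) := by
  have hcert := c.cert hA
  have hws := hcert.w_lt s hs
  have hns := neg_lt_all D hD s hs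
  have hη : ((etaOf B s : ℤ) : K) ≠ 0 := by
    rcases etaOf_pm B s with h | h <;> rw [h] <;> simp
  refine ⟨τ ^ (D.cartan i (wOf B s)) * ((etaOf B s : ℤ) : K),
    mul_ne_zero (zpow_ne_zero _ hτ) hη, fun u => gconj_explicit hD hA hadd hi c τ hτ s hs u,
    fun u => ?_⟩
  rw [gconj_explicit hD hA hadd hi c τ hτ (D.neg s) hns u]
  have e1 : wOf B (D.neg s) = D.neg (wOf B s) := by
    rw [FD.neg_eq' hA s hs, FD.neg_eq' hA _ hws]
    exact (hcert.neg_w s hs).symm
  have e2 : etaOf B (D.neg s) = etaOf B s := by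
    rw [FD.neg_eq' hA s hs]
    exact hcert.neg_eta s hs
  have e3 : τ ^ (D.cartan i (D.neg (wOf B s))) = (τ ^ (D.cartan i (wOf B s)))⁻¹ := by
    have h := (isRootCharacter_cartan_all (F := K) D hD i hi (Units.mk0 τ hτ)).1 (wOf B s) hws
    have h' := congrArg (fun x : Kˣ => (x : K)) h
    simpa using h'
  have e4 : (((etaOf B s : ℤ) : K))⁻¹ = ((etaOf B s : ℤ) : K) := by
    rcases etaOf_pm B s with h | h <;> rw [h] <;> simp
  rw [e1, e2, e3, mul_inv, e4]

end Cfsg.Agent.Lib.Helper5.St
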