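import Cfsg.Agent.Lib.Helper5.St.Central
import Cfsg.Agent.Lib.Helper5.St.GPair
import Mathlib

/-!
# The kernel lies in the subgroup generated by the `h̄_i(t)` (helper5)
-/

set_option autoImplicit false

namespace Cfsg.Agent.Lib.Helper5.St

open Cfsg.Lie Cfsg.Agent.Lib.Helper5.Chev Cfsg.Agent.Lib.Helper5.Tw
open scoped Matrix

/-- root elements with the same non-trivial value belong to the same root -/
theorem xU_root_eq' {K : Type*} [Field K] (D : ChevalleyDatum)
    (hD : D ∈ [chevG2, chevB2, chevD4, chevF4, chevE6, chevE7, chevE8]) (hadd : AllAdd K D)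
    (s s' : ℕ) (hs : s < D.nroots) (hs' : s' < D.nroots) (a c : K) (ha : a ≠ 0)
    (h : hadd.xU s a = hadd.xU s' c) : s = s' := by
  by_contra hne
  have h1 : D.x K s a = D.x K s' c := congrArg Units.val h
  rw [x_eq_xMat s hs, x_eq_xMat s' hs'] at h1
  have hq := neg_lt_all D hD s hs
  have hqne := neg_ne_all D hD s hs
  have key : ∀ i < D.rank, (((D.coroot.getD s #[]).getD i 0 : ℤ) : K) * a = 0 := by
    intro i hi
    have h2 := congrFun (congrFun h1 (Sum.inl ⟨i, hi⟩)) (Sum.inr ⟨D.neg s, hq⟩)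
    unfold ChevalleyDatum.xMat at h2
    simp only [Matrix.of_apply] at h2
    rw [if_neg (by intro he; exact hqne (Fin.mk.inj_iff.1 he)),
      if_pos (show D.neg s = D.negIdx.getD s 0 from rfl)] at h2
    by_cases h3 : (⟨D.neg s, hq⟩ : Fin D.nroots) = ⟨s', hs'⟩
    · rw [if_pos h3] at h2
      exact h2
    · rw [if_neg h3, if_neg] at h2
      · exact h2
      · intro he
        apply hne
        have he' : D.neg s = D.neg s' := he
        rw [← neg_neg_all D hD s hs, he', neg_neg_all D hD s' hs']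
  exact ha (corInj_all (F := K) D hD s hs a key)

theorem StCtx.wOf_neg {K : Type*} [Field K] {D : ChevalleyDatum} {T : FD} {Bs : List ℕ} {gH : ℕ}
    {baseH : List ℕ} {fuel : ℕ} (C : StCtx K D T Bs gH baseH fuel) (i : ℕ) (hi : i < D.rank)
    (s : ℕ) (hs : s < D.nroots) :
    wOf (Bs.getD i 0) (D.neg s) = D.neg (wOf (Bs.getD i 0) s) := by
  have hcert := (C.hB i hi).cert C.hA
  rw [FD.neg_eq' C.hA s hs, FD.neg_eq' C.hA _ (hcert.w_lt s hs)]
  exact (hcert.neg_w s hs).symm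

/-- a fundamental reflection maps the negative roots other than `-p_i` to negative roots -/
theorem StCtx.refl_neg_lt {K : Type*} [Field K] {D : ChevalleyDatum} {T : FD} {Bs : List ℕ}
    {gH : ℕ} {baseH : List ℕ} {fuel : ℕ} (C : StCtx K D T Bs gH baseH fuel) (i : ℕ)
    (hi : i < D.rank) (s : ℕ) (hs : s < D.nroots)
    (hneg : s < D.nroots / 2) (hne : s ≠ D.neg (D.simple i)) :
    wOf (Bs.getD i 0) s < D.nroots / 2 := by
  have F := C.facts (allAdd_all D C.hD) i hi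
  have hns := neg_lt_all D C.hD s hs
  have hpos := neg_ge_half_all D C.hD s hs hneg
  have hnp : D.neg s ≠ D.simple i := by
    intro e
    apply hne
    rw [← e, neg_neg_all D C.hD s hs]
  have hmem : D.neg s ∈ posNot D (D.simple i) := (mem_posNot F.even _ _).2 ⟨⟨hpos, hns⟩, hnp⟩
  have hw := F.posOK.refl _ hmem
  rw [mem_posNot F.even, C.wOf_neg i hi s hs] at hw
  by_contra hcon
  have := neg_lt_half_all D C.hD _ (F.wlt s hs) (by omega)
  omega

/-- a word carrying a negative root to a positive root passes through the opposite of a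
fundamental root -/
theorem StCtx.find_split {K : Type*} [Field K] {D : ChevalleyDatum} {T : FD} {Bs : List ℕ}
    {gH : ℕ} {baseH : List ℕ} {fuel : ℕ} (C : StCtx K D T Bs gH baseH fuel) :
    ∀ (w : List (ℕ × K)), OKw D w → ∀ s < D.nroots, s < D.nroots / 2 →
    D.nroots / 2 ≤ wW' Bs (w.map Prod.fst) s →
    ∃ (wM : List (ℕ × K)) (y : ℕ × K) (w2 : List (ℕ × K)), w = wM ++ y :: w2 ∧
      wW' Bs (wM.map Prod.fst) s = D.neg (D.simple y.1)
  | [], _, s, _, h1, h2 => by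
    exfalso
    change D.nroots / 2 ≤ s at h2
    omega
  | x :: w, hw, s, hs, h1, h2 => by
    by_cases hx : s = D.neg (D.simple x.1)
    · exact ⟨[], x, w, rfl, hx⟩
    · have hi := (hw x List.mem_cons_self).1
      have hlt := C.refl_neg_lt x.1 hi s hs h1 hx
      have F := C.facts (allAdd_all D C.hD) x.1 hi
      obtain ⟨wM, y, w2, e, h⟩ := StCtx.find_split C w
        (fun z hz => hw z (List.mem_cons_of_mem _ hz)) _ (F.wlt s hs) hlt h2
      exact ⟨x :: wM, y, w2, by rw [e]; rfl, h⟩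

namespace RData

variable {K : Type*} [Field K] {D : ChevalleyDatum} {Γ : Type*} [Group Γ] (R : RData K D Γ)
  {T : FD} {Bs : List ℕ} {gH : ℕ} {baseH : List ℕ} {fuel : ℕ}

/-- `h̄_i(t)` -/
def hbar (i : ℕ) (t : K) : Γ := R.nbar (D.simple i) t * R.nbar (D.simple i) (-1)

/-- the subgroup generated by the `h̄_i(t)` -/
def H0 : Subgroup Γ := Subgroup.closure {h | ∃ i < D.rank, ∃ t : K, t ≠ 0 ∧ h = R.hbar i t}

theorem nW_append (w w' : List (ℕ × K)) : R.nW (w ++ w') = R.nW w * R.nW w' := by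
  unfold nW
  rw [List.map_append, List.prod_append]

/-- the elements acting on `n̄_i` by a scalar -/
def stabN (i : ℕ) : Subgroup Γ where
  carrier := {g | ∃ a : K, a ≠ 0 ∧ ∀ τ : K,
    g⁻¹ * R.nbar (D.simple i) τ * g = R.nbar (D.simple i) (a * τ)}
  one_mem' := ⟨1, one_ne_zero, fun τ => by rw [inv_one, one_mul, mul_one, one_mul]⟩
  mul_mem' := by
    rintro g₁ g₂ ⟨a₁, h₁, e₁⟩ ⟨a₂, h₂, e₂⟩
    refine ⟨a₂ * a₁, mul_ne_zero h₂ h₁, fun τ => ?_⟩
    rw [mul_assoc a₂, ← e₂, ← e₁, mul_inv_rev]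
    simp only [mul_assoc]
  inv_mem' := by
    rintro g ⟨a, h, e⟩
    refine ⟨a⁻¹, inv_ne_zero h, fun τ => ?_⟩
    have := e (a⁻¹ * τ)
    rw [← mul_assoc, mul_inv_cancel₀ h, one_mul] at this
    rw [← this, inv_inv]
    simp only [mul_assoc, mul_inv_cancel_left, mul_inv_cancel, mul_one]

variable (C : StCtx K D T Bs gH baseH fuel)

include C

theorem nbar_mul_nbar_mem (i : ℕ) (hi : i < D.rank) (a b : K) (ha : a ≠ 0) (hb : b ≠ 0) :
    R.nbar (D.simple i) a * R.nbar (D.simple i) b ∈ R.H0 := by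
  have F := C.facts R.hadd i hi
  have e : R.nbar (D.simple i) a * R.nbar (D.simple i) b = R.hbar i a * (R.hbar i (-b))⁻¹ := by
    unfold hbar
    rw [mul_inv_rev, R.nbar_inv _ F.hp F.hq (-b), neg_neg]
    simp only [mul_assoc, mul_inv_cancel_left]
  rw [e]
  exact Subgroup.mul_mem _ (Subgroup.subset_closure ⟨i, hi, a, ha, rfl⟩)
    (Subgroup.inv_mem _ (Subgroup.subset_closure ⟨i, hi, -b, neg_ne_zero.2 hb, rfl⟩))

/-- conjugation by `n̄_i(τ)`: the constants on opposite roots are inverse to each other -/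
theorem nbar_conj_pair (i : ℕ) (hi : i < D.rank) (τ : K) (hτ : τ ≠ 0) (s : ℕ)
    (hs : s < D.nroots) :
    ∃ c : K, c ≠ 0 ∧
      (∀ u : K, R.nbar (D.simple i) τ * R.X s u * (R.nbar (D.simple i) τ)⁻¹
        = R.X (wOf (Bs.getD i 0) s) (c * u)) ∧
      (∀ u : K, R.nbar (D.simple i) τ * R.X (D.neg s) u * (R.nbar (D.simple i) τ)⁻¹
        = R.X (D.neg (wOf (Bs.getD i 0) s)) (c⁻¹ * u)) := by
  have F := C.facts R.hadd i hi
  have hns := neg_lt_all D C.hD s hs
  have hws := F.wlt s hs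
  have hnws := neg_lt_all D C.hD _ hws
  obtain ⟨c, hc, g1, g2⟩ := gconj_pair C.hD C.hA R.hadd hi (C.hB i hi) τ hτ s hs
  obtain ⟨c1, hc1, e1⟩ := R.nbar_conj F τ hτ s hs
  obtain ⟨c2, hc2, e2⟩ := R.nbar_conj F τ hτ (D.neg s) hns
  rw [C.wOf_neg i hi s hs] at e2
  have k1 : c1 = c := by
    have := congrArg R.θ (e1 1)
    rw [map_mul, map_mul, map_inv, R.theta_nbar _ F.hp F.hq, R.hθ s hs, R.hθ _ hws] at this
    have h2 := (g1 1).symm.trans this
    have := xU_injective R.hadd _ (xInj_all D C.hD _ hws) _ _ h2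
    rw [mul_one, mul_one] at this
    exact this.symm
  have k2 : c2 = c⁻¹ := by
    have := congrArg R.θ (e2 1)
    rw [map_mul, map_mul, map_inv, R.theta_nbar _ F.hp F.hq, R.hθ _ hns, R.hθ _ hnws] at this
    have h2 := (g2 1).symm.trans this
    have := xU_injective R.hadd _ (xInj_all D C.hD _ hnws) _ _ h2
    rw [mul_one, mul_one] at this
    exact this.symm
  exact ⟨c, hc, fun u => by rw [e1 u, k1], fun u => by rw [e2 u, k2]⟩

/-- conjugation by the inverse of a word: the constants on opposite roots -/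
theorem nW_conj_pair' (w : List (ℕ × K)) (hw : OKw D w) : ∀ s < D.nroots, ∃ c : K, c ≠ 0 ∧
    (∀ u : K, (R.nW w)⁻¹ * R.X s u * R.nW w = R.X (wW' Bs (w.map Prod.fst) s) (c * u)) ∧
    (∀ u : K, (R.nW w)⁻¹ * R.X (D.neg s) u * R.nW w
      = R.X (D.neg (wW' Bs (w.map Prod.fst) s)) (c⁻¹ * u)) := by
  induction w with
  | nil =>
    intro s _
    refine ⟨1, one_ne_zero, fun u => ?_, fun u => ?_⟩
    · rw [nW_nil, inv_one, one_mul, mul_one, one_mul]
      rfl
    · rw [nW_nil, inv_one, one_mul, mul_one, inv_one, one_mul]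
      rfl
  | cons x w ih =>
    intro s hs
    obtain ⟨hx1, hx2⟩ := hw x List.mem_cons_self
    have F := C.facts R.hadd x.1 hx1
    obtain ⟨c1, hc1, e1, f1⟩ := R.nbar_conj_pair C x.1 hx1 (-x.2) (neg_ne_zero.2 hx2) s hs
    obtain ⟨c2, hc2, e2, f2⟩ := ih (fun y hy => hw y (List.mem_cons_of_mem _ hy)) _ (F.wlt s hs)
    have hinv : R.nbar (D.simple x.1) (-x.2) = (R.nbar (D.simple x.1) x.2)⁻¹ :=
      (R.nbar_inv _ F.hp F.hq x.2).symm
    rw [hinv, inv_inv] at e1 f1
    refine ⟨c2 * c1, mul_ne_zero hc2 hc1, fun u => ?_, fun u => ?_⟩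
    · rw [nW_cons, mul_inv_rev]
      calc (R.nW w)⁻¹ * (R.nbar (D.simple x.1) x.2)⁻¹ * R.X s u *
            (R.nbar (D.simple x.1) x.2 * R.nW w)
          = (R.nW w)⁻¹ * ((R.nbar (D.simple x.1) x.2)⁻¹ * R.X s u * R.nbar (D.simple x.1) x.2) *
            R.nW w := by simp only [mul_assoc]
        _ = _ := by
          rw [e1, e2, mul_assoc]
          rfl
    · rw [nW_cons, mul_inv_rev]
      calc (R.nW w)⁻¹ * (R.nbar (D.simple x.1) x.2)⁻¹ * R.X (D.neg s) u *
            (R.nbar (D.simple x.1) x.2 * R.nW w)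
          = (R.nW w)⁻¹ * ((R.nbar (D.simple x.1) x.2)⁻¹ * R.X (D.neg s) u *
            R.nbar (D.simple x.1) x.2) * R.nW w := by simp only [mul_assoc]
        _ = _ := by
          rw [f1, f2, mul_inv, mul_assoc]
          rfl

/-- conjugation of `n̄_a(τ)` by the inverse of a word carrying the root `p_a` to `p_b` -/
theorem nW_conj_nbar (w : List (ℕ × K)) (hw : OKw D w) (a b : ℕ) (ha : a < D.rank)
    (h : wW' Bs (w.map Prod.fst) (D.simple a) = D.simple b) :
    ∃ c : K, c ≠ 0 ∧ ∀ τ : K,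
      (R.nW w)⁻¹ * R.nbar (D.simple a) τ * R.nW w = R.nbar (D.simple b) (c * τ) := by
  have Fa := C.facts R.hadd a ha
  obtain ⟨c, hc, e1, e2⟩ := R.nW_conj_pair' C w hw (D.simple a) Fa.hp
  rw [h] at e1 e2
  refine ⟨c, hc, fun τ => ?_⟩
  rw [R.nbar_eq, R.nbar_eq]
  have h0 : -(c * τ)⁻¹ = c⁻¹ * (-τ⁻¹) := by
    rw [mul_inv]
    ring
  rw [h0, ← e1 τ, ← e2 (-τ⁻¹)]
  simp only [mul_assoc, mul_inv_cancel_left]

theorem H0_le_stabN (i : ℕ) (hi : i < D.rank) : R.H0 ≤ R.stabN i := by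
  unfold H0
  rw [Subgroup.closure_le]
  rintro h ⟨j, hj, t, ht, rfl⟩
  have Fi := C.facts R.hadd i hi
  have hw : OKw D [(j, t), (j, (-1 : K))] := by
    intro x hx
    rw [List.mem_cons, List.mem_singleton] at hx
    rcases hx with rfl | rfl
    · exact ⟨hj, ht⟩
    · exact ⟨hj, neg_ne_zero.2 one_ne_zero⟩
  have e : R.hbar j t = R.nW [(j, t), (j, (-1 : K))] := by
    rw [nW_cons, nW_cons, nW_nil, mul_one]
    rfl
  have hπ : wW' Bs ([(j, t), (j, (-1 : K))].map Prod.fst) (D.simple i) = D.simple i := by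
    show wOf (Bs.getD j 0) (wOf (Bs.getD j 0) (D.simple i)) = D.simple i
    exact ((C.hB j hj).cert C.hA).w_w _ Fi.hp
  obtain ⟨c, hc, ec⟩ := R.nW_conj_nbar C _ hw i i hi hπ
  rw [e]
  exact ⟨c, hc, ec⟩

/-- `n̄_i(τ)` normalises the subgroup generated by the `h̄_j(t)` -/
theorem nbar_conj_H0 (i : ℕ) (hi : i < D.rank) (τ : K) (hτ : τ ≠ 0) (h : Γ) (hh : h ∈ R.H0) :
    R.nbar (D.simple i) τ * h * (R.nbar (D.simple i) τ)⁻¹ ∈ R.H0 := by
  obtain ⟨a, ha, e⟩ := R.H0_le_stabN C i hi hh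
  have F := C.facts R.hadd i hi
  have e1 : R.nbar (D.simple i) τ * h * (R.nbar (D.simple i) τ)⁻¹
      = h * (R.nbar (D.simple i) (a * τ) * R.nbar (D.simple i) (-τ)) := by
    rw [← R.nbar_inv _ F.hp F.hq τ, ← e τ]
    simp only [mul_assoc, mul_inv_cancel_left]
  rw [e1]
  exact Subgroup.mul_mem _ hh
    (R.nbar_mul_nbar_mem C i hi _ _ (mul_ne_zero ha hτ) (neg_ne_zero.2 hτ))

theorem nW_conj_H0 (w : List (ℕ × K)) (hw : OKw D w) (h : Γ) (hh : h ∈ R.H0) :
    R.nW w * h * (R.nW w)⁻¹ ∈ R.H0 := by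
  induction w with
  | nil =>
    rw [nW_nil, one_mul, inv_one, mul_one]
    exact hh
  | cons x w ih =>
    have h1 := ih (fun y hy => hw y (List.mem_cons_of_mem _ hy))
    have h2 := R.nbar_conj_H0 C x.1 (hw x List.mem_cons_self).1 x.2 (hw x List.mem_cons_self).2 _ h1
    rw [nW_cons, mul_inv_rev]
    convert h2 using 1
    simp only [mul_assoc]

/-- the image of the subgroup generated by the `h̄_j(t)` lies in `H` -/
theorem theta_H0 (h : Γ) (hh : h ∈ R.H0) : R.θ h ∈ D.diagonalSubgroup K := by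
  have hle : R.H0 ≤ (D.diagonalSubgroup K).comap R.θ := by
    unfold H0
    rw [Subgroup.closure_le]
    rintro x ⟨i, hi, t, ht, rfl⟩
    have F := C.facts R.hadd i hi
    show R.θ (R.hbar i t) ∈ D.diagonalSubgroup K
    unfold hbar
    rw [map_mul, R.theta_nbar _ F.hp F.hq, R.theta_nbar _ F.hp F.hq]
    apply Subgroup.subset_closure
    refine ⟨D.simple i, t, F.hp, ht, ?_⟩
    rw [Units.val_mul, R.hadd.wordU_val, R.hadd.wordU_val]
    unfold ChevalleyDatum.hMat ChevalleyDatum.hWord ChevalleyDatum.wordMat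
    rw [List.map_append, List.prod_append]
  exact hle hh

/-- a word mapped into `H` acts trivially on the roots -/
theorem wW'_eq_of_diag (w : List (ℕ × K)) (hw : OKw D w)
    (hθ : R.θ (R.nW w) ∈ D.diagonalSubgroup K) (s : ℕ) (hs : s < D.nroots) :
    wW' Bs (w.map Prod.fst) s = s := by
  obtain ⟨c, hc, e⟩ := R.nW_conj' C w hw s hs
  have hslt := wW'_lt C.hA Bs C.hB _ hw.fst_lt s hs
  obtain ⟨χ, -, hχ⟩ := diag_conj_char D R.hD _ (Subgroup.inv_mem _ hθ)
  have h1 := congrArg R.θ (e 1)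
  rw [map_mul, map_mul, map_inv, R.hθ s hs, R.hθ _ hslt] at h1
  have h2 := hχ s hs 1
  rw [inv_inv] at h2
  have h3 := h2.symm.trans h1
  exact (xU_root_eq' D C.hD R.hadd s _ hs hslt _ _
    (mul_ne_zero (Units.ne_zero _) one_ne_zero) h3).symm

end RData

end Cfsg.Agent.Lib.Helper5.St
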