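import Cfsg.Agent.Lib.Helper5.St.HBar
import Mathlib

/-!
# The kernel lies in the subgroup generated by the `h̄_i(t)`, continued (helper5)
-/

set_option autoImplicit false

namespace Cfsg.Agent.Lib.Helper5.St

open Cfsg.Lie Cfsg.Agent.Lib.Helper5.Chev Cfsg.Agent.Lib.Helper5.Tw
open scoped Matrix

theorem OKw.append {K : Type*} [Field K] {D : ChevalleyDatum} {w w' : List (ℕ × K)}
    (hw : OKw D w) (hw' : OKw D w') : OKw D (w ++ w') := by
  intro x hx
  rcases List.mem_append.1 hx with h | h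
  · exact hw x h
  · exact hw' x h

namespace RData

variable {K : Type*} [Field K] {D : ChevalleyDatum} {Γ : Type*} [Group Γ] (R : RData K D Γ)
  {T : FD} {Bs : List ℕ} {gH : ℕ} {baseH : List ℕ} {fuel : ℕ}
  (C : StCtx K D T Bs gH baseH fuel)

include C

/-- a word mapped into `H` lies in the subgroup generated by the `h̄_i(t)` -/
theorem nW_mem_H0 : ∀ (n : ℕ) (w : List (ℕ × K)), w.length = n → OKw D w →
    R.θ (R.nW w) ∈ D.diagonalSubgroup K → R.nW w ∈ R.H0 := by
  intro n
  induction n using Nat.strong_induction_on with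
  | _ n ih =>
    intro w hlen hw hθ
    cases w with
    | nil =>
      rw [nW_nil]
      exact Subgroup.one_mem _
    | cons x w' =>
      obtain ⟨hi, hτ⟩ := hw x List.mem_cons_self
      have hw' : OKw D w' := fun z hz => hw z (List.mem_cons_of_mem _ hz)
      have F := C.facts R.hadd x.1 hi
      have hπ := R.wW'_eq_of_diag C (x :: w') hw hθ (D.simple x.1) F.hp
      have hπ' : wW' Bs (w'.map Prod.fst) (D.neg (D.simple x.1)) = D.simple x.1 := by
        have h0 : wW' Bs ((x :: w').map Prod.fst) (D.simple x.1)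
            = wW' Bs (w'.map Prod.fst) (wOf (Bs.getD x.1 0) (D.simple x.1)) := rfl
        rw [h0, F.wp] at hπ
        exact hπ
      obtain ⟨wM, y, w2, e, hs⟩ := C.find_split w' hw' (D.neg (D.simple x.1)) F.hq F.hnegq
        (by rw [hπ']; exact F.hposp)
      have hwM : OKw D wM := fun z hz => hw' z (by rw [e]; exact List.mem_append_left _ hz)
      have hy := hw' y (by rw [e]; exact List.mem_append_right _ List.mem_cons_self)
      have hw2 : OKw D w2 := fun z hz =>
        hw' z (by rw [e]; exact List.mem_append_right _ (List.mem_cons_of_mem _ hz))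
      have Fy := C.facts R.hadd y.1 hy.1
      have hp' : wW' Bs (wM.map Prod.fst) (D.simple x.1) = D.simple y.1 := by
        have h1 := wW'_neg C.hA Bs C.hB _ hwM.fst_lt (D.simple x.1) F.hp
        rw [hs] at h1
        have hlt := wW'_lt C.hA Bs C.hB _ hwM.fst_lt (D.simple x.1) F.hp
        rw [← neg_neg_all D C.hD _ hlt, ← h1, Fy.negneg]
      obtain ⟨c, hc, ec⟩ := R.nW_conj_nbar C wM hwM x.1 y.1 hi hp'
      have e1 : R.nbar (D.simple x.1) x.2 * R.nW wM
          = R.nW wM * R.nbar (D.simple y.1) (c * x.2) := by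
        rw [← ec x.2]
        simp only [mul_assoc, mul_inv_cancel_left]
      have hH : R.nbar (D.simple y.1) (c * x.2) * R.nbar (D.simple y.1) y.2 ∈ R.H0 :=
        R.nbar_mul_nbar_mem C y.1 hy.1 _ _ (mul_ne_zero hc hτ) hy.2
      have e2 : R.nW (x :: w') = (R.nW wM * (R.nbar (D.simple y.1) (c * x.2) *
          R.nbar (D.simple y.1) y.2) * (R.nW wM)⁻¹) * R.nW (wM ++ w2) := by
        rw [nW_cons, e, nW_append, nW_cons, nW_append]
        calc R.nbar (D.simple x.1) x.2 * (R.nW wM * (R.nbar (D.simple y.1) y.2 * R.nW w2))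
            = (R.nbar (D.simple x.1) x.2 * R.nW wM) * (R.nbar (D.simple y.1) y.2 * R.nW w2) := by
              simp only [mul_assoc]
          _ = _ := by
            rw [e1]
            simp only [mul_assoc, inv_mul_cancel_left]
      have hc1 := R.nW_conj_H0 C wM hwM _ hH
      have hlen2 : (wM ++ w2).length < n := by
        rw [← hlen, e]
        simp only [List.length_append, List.length_cons]
        omega
      have hθ2 : R.θ (R.nW (wM ++ w2)) ∈ D.diagonalSubgroup K := by
        have e3 : R.θ (R.nW (wM ++ w2)) = (R.θ (R.nW wM * (R.nbar (D.simple y.1) (c * x.2) *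
            R.nbar (D.simple y.1) y.2) * (R.nW wM)⁻¹))⁻¹ * R.θ (R.nW (x :: w')) := by
          rw [e2, map_mul (f := R.θ) (R.nW wM * _ * _) (R.nW (wM ++ w2)), inv_mul_cancel_left]
        rw [e3]
        exact Subgroup.mul_mem _ (Subgroup.inv_mem _ (R.theta_H0 C _ hc1)) hθ
      have h4 := ih _ hlen2 (wM ++ w2) rfl (hwM.append hw2) hθ2
      rw [e2]
      exact Subgroup.mul_mem _ hc1 h4

/-- an element of the kernel is a word in the `n̄_i(τ)` -/
theorem ker_exists_word (z : Γ) (hz : R.θ z = 1) :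
    ∃ w : List (ℕ × K), OKw D w ∧ z = R.nW w ∧ R.θ (R.nW w) = 1 := by
  obtain ⟨u, hu, w, hw, u', hu', rfl⟩ := R.YY_univ C z
  have heven := even_all D C.hD
  have hpos : ∀ r ∈ posL D, D.IsPosRoot r := fun r hr =>
    (pos_iff_all D C.hD r ((mem_posL heven r).1 hr).2).2 ((mem_posL heven r).1 hr).1
  rw [map_mul, map_mul] at hz
  have h1 : R.θ (R.nW w) ∈ D.posUnipotent K := by
    have e : R.θ (R.nW w) = (R.θ u)⁻¹ * (R.θ u')⁻¹ := by
      calc R.θ (R.nW w) = (R.θ u)⁻¹ * (R.θ u * R.θ (R.nW w) * R.θ u') * (R.θ u')⁻¹ := by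
            simp only [mul_assoc, inv_mul_cancel_left, mul_inv_cancel, mul_one]
        _ = _ := by rw [hz, mul_one]
    rw [e]
    exact Subgroup.mul_mem _ (Subgroup.inv_mem _ (R.theta_UL_pos _ hpos u hu))
      (Subgroup.inv_mem _ (R.theta_UL_pos _ hpos u' hu'))
  have h2 := R.theta_nW_mem C w hw
  have h3 : R.θ (R.nW w) = 1 := by
    have : R.θ (R.nW w) ∈ D.posUnipotent K ⊓ D.monomialSubgroup K := ⟨h1, h2⟩
    rw [(borel_inf_monomial_all D C.hD).1] at this
    exact Subgroup.mem_bot.1 this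
  have h4 : u * u' = 1 := by
    apply R.theta_inj_UL (posL D) C.good (injL_posL C.hD R.hadd) _ (Subgroup.mul_mem _ hu hu')
    rw [h3, mul_one] at hz
    rw [map_mul]
    exact hz
  have hn := R.nW_central C w hw h3
  refine ⟨w, hw, ?_, h3⟩
  rw [Subgroup.mem_center_iff] at hn
  rw [hn u, mul_assoc, h4, mul_one]

/-- the kernel lies in the subgroup generated by the `h̄_i(t)` -/
theorem ker_le_H0 : R.θ.ker ≤ R.H0 := by
  intro z hz
  obtain ⟨w, hw, rfl, h1⟩ := R.ker_exists_word C z (MonoidHom.mem_ker.1 hz)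
  exact R.nW_mem_H0 C _ w rfl hw (by rw [h1]; exact Subgroup.one_mem _)

end RData

end Cfsg.Agent.Lib.Helper5.St
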