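import Cfsg.Agent.Lib.Helper5.St.DFacts
import Mathlib

/-!
# The kernel of the homomorphism onto the Chevalley group is central (helper5)

Steinberg's argument: the abstract group is `Ū N̄ Ū`; an element of the kernel is conjugate under
`Ū` to an element of `N̄` in the kernel, which acts trivially on all the root elements.
-/

set_option autoImplicit false

namespace Cfsg.Agent.Lib.Helper5.St

open Cfsg.Lie Cfsg.Agent.Lib.Helper5.Chev Cfsg.Agent.Lib.Helper5.Tw
open scoped Matrix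

/-- all the data on a Chevalley datum used for the kernel -/
structure StCtx (K : Type*) [Field K] (D : ChevalleyDatum) (T : FD) (Bs : List ℕ) (gH : ℕ)
    (baseH : List ℕ) (fuel : ℕ) : Prop where
  hD : D ∈ [chevG2, chevB2, chevD4, chevF4, chevE6, chevE7, chevE8]
  hA : T.Agrees D
  hB : ∀ i < D.rank, ReflChecks T D i (Bs.getD i 0)
  hr : reachb T Bs gH baseH fuel = true
  hbase : ∀ s ∈ baseH, ∃ j < D.rank, s = D.simple j
  good : GoodL D (posL D)
  facts : ∀ hadd : AllAdd K D, ∀ i < D.rank, SFacts K D hadd (Bs.getD i 0) (D.simple i)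

/-- the words of pairs (index of a fundamental root, non-zero parameter) -/
def OKw {K : Type*} [Field K] (D : ChevalleyDatum) (w : List (ℕ × K)) : Prop :=
  ∀ x ∈ w, x.1 < D.rank ∧ x.2 ≠ 0

theorem OKw.fst_lt {K : Type*} [Field K] {D : ChevalleyDatum} {w : List (ℕ × K)} (hw : OKw D w) :
    ∀ j ∈ w.map Prod.fst, j < D.rank := by
  intro j hj
  rw [List.mem_map] at hj
  obtain ⟨x, hx, rfl⟩ := hj
  exact (hw x hx).1

namespace RData

variable {K : Type*} [Field K] {D : ChevalleyDatum} {Γ : Type*} [Group Γ] (R : RData K D Γ)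
  {T : FD} {Bs : List ℕ} {gH : ℕ} {baseH : List ℕ} {fuel : ℕ}

/-- the product of the elements `n_i(τ)` of a word -/
def nW (w : List (ℕ × K)) : Γ := (w.map fun x => R.nbar (D.simple x.1) x.2).prod

theorem nW_nil : R.nW [] = 1 := rfl

theorem nW_cons (x : ℕ × K) (w : List (ℕ × K)) :
    R.nW (x :: w) = R.nbar (D.simple x.1) x.2 * R.nW w := by
  unfold nW
  rw [List.map_cons, List.prod_cons]

/-- the set `Ū N̄ Ū` -/
def YY : Set Γ := {g | ∃ u ∈ R.UL (posL D), ∃ w : List (ℕ × K), OKw D w ∧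
  ∃ u' ∈ R.UL (posL D), g = u * R.nW w * u'}

theorem one_mem_YY : (1 : Γ) ∈ R.YY :=
  ⟨1, Subgroup.one_mem _, [], fun x hx => absurd hx List.not_mem_nil, 1, Subgroup.one_mem _, by
    rw [nW_nil, one_mul, one_mul]⟩

theorem U_mul_mem (u0 : Γ) (hu0 : u0 ∈ R.UL (posL D)) (g : Γ) (hg : g ∈ R.YY) :
    u0 * g ∈ R.YY := by
  obtain ⟨u, hu, w, hw, u', hu', rfl⟩ := hg
  exact ⟨u0 * u, Subgroup.mul_mem _ hu0 hu, w, hw, u', hu', by simp only [mul_assoc]⟩

variable (C : StCtx K D T Bs gH baseH fuel)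

include C

/-- conjugation of the root elements by the inverse of a word -/
theorem nW_conj' (w : List (ℕ × K)) (hw : OKw D w) : ∀ s < D.nroots, ∃ c : K, c ≠ 0 ∧ ∀ u : K,
    (R.nW w)⁻¹ * R.X s u * R.nW w = R.X (wW' Bs (w.map Prod.fst) s) (c * u) := by
  induction w with
  | nil =>
    intro s _
    refine ⟨1, one_ne_zero, fun u => ?_⟩
    rw [nW_nil, inv_one, one_mul, mul_one, one_mul]
    rfl
  | cons x w ih =>
    intro s hs
    obtain ⟨hx1, hx2⟩ := hw x List.mem_cons_self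
    have F := C.facts R.hadd x.1 hx1
    obtain ⟨c1, hc1, e1⟩ := R.nbar_conj F (-x.2) (neg_ne_zero.2 hx2) s hs
    obtain ⟨c2, hc2, e2⟩ := ih (fun y hy => hw y (List.mem_cons_of_mem _ hy)) _ (F.wlt s hs)
    refine ⟨c2 * c1, mul_ne_zero hc2 hc1, fun u => ?_⟩
    have e1' : (R.nbar (D.simple x.1) x.2)⁻¹ * R.X s u * R.nbar (D.simple x.1) x.2
        = R.X (wOf (Bs.getD x.1 0) s) (c1 * u) := by
      have := e1 u
      rw [← R.nbar_inv _ F.hp F.hq, inv_inv] at this
      exact this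
    rw [nW_cons, mul_inv_rev]
    calc (R.nW w)⁻¹ * (R.nbar (D.simple x.1) x.2)⁻¹ * R.X s u *
          (R.nbar (D.simple x.1) x.2 * R.nW w)
        = (R.nW w)⁻¹ * ((R.nbar (D.simple x.1) x.2)⁻¹ * R.X s u * R.nbar (D.simple x.1) x.2) *
          R.nW w := by simp only [mul_assoc]
      _ = _ := by
        rw [e1', e2, mul_assoc]
        rfl

/-- `X_{-p}(b) n̄ ∈ Ū N̄ Ū` for a fundamental root `p` -/
theorem Xq_mul_mem (i : ℕ) (hi : i < D.rank) (b : K) (w : List (ℕ × K)) (hw : OKw D w) (u' : Γ)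
    (hu' : u' ∈ R.UL (posL D)) : R.X (D.neg (D.simple i)) b * R.nW w * u' ∈ R.YY := by
  have F := C.facts R.hadd i hi
  by_cases hb : b = 0
  · rw [hb, R.X_zero _ F.hq, one_mul]
    exact ⟨1, Subgroup.one_mem _, w, hw, u', hu', by rw [one_mul]⟩
  · obtain ⟨c, hc, e⟩ := R.nW_conj' C w hw (D.neg (D.simple i)) F.hq
    have hL := hw.fst_lt
    have hslt := wW'_lt C.hA Bs C.hB _ hL (D.neg (D.simple i)) F.hq
    have e1 : R.X (D.neg (D.simple i)) b * R.nW w
        = R.nW w * R.X (wW' Bs (w.map Prod.fst) (D.neg (D.simple i))) (c * b) := by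
      rw [← e b]
      simp only [mul_assoc, mul_inv_cancel_left]
    by_cases hpos : D.nroots / 2 ≤ wW' Bs (w.map Prod.fst) (D.neg (D.simple i))
    · refine ⟨1, Subgroup.one_mem _, w, hw,
        R.X (wW' Bs (w.map Prod.fst) (D.neg (D.simple i))) (c * b) * u', ?_, ?_⟩
      · exact Subgroup.mul_mem _ (R.X_mem_UL _ _ ((mem_posL F.even _).2 ⟨hpos, hslt⟩) _) hu'
      · rw [e1]
        simp only [mul_assoc, one_mul]
    · have hs' : wW' Bs (w.map Prod.fst) (D.simple i)
          = D.neg (wW' Bs (w.map Prod.fst) (D.neg (D.simple i))) := by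
        have := wW'_neg C.hA Bs C.hB _ hL (D.neg (D.simple i)) F.hq
        rw [F.negneg] at this
        exact this
      have hns := neg_ge_half_all D C.hD _ hslt (by omega)
      have hnslt := neg_lt_all D C.hD _ hslt
      obtain ⟨c', hc', e'⟩ := R.nW_conj' C w hw (D.simple i) F.hp
      rw [hs'] at e'
      have e2 : R.X (D.simple i) b⁻¹ * R.nW w = R.nW w *
          R.X (D.neg (wW' Bs (w.map Prod.fst) (D.neg (D.simple i)))) (c' * b⁻¹) := by
        rw [← e' b⁻¹]
        simp only [mul_assoc, mul_inv_cancel_left]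
      have hZ : R.X (D.neg (D.simple i)) b
          = R.X (D.simple i) b⁻¹ * R.nbar (D.simple i) (-b⁻¹) * R.X (D.simple i) b⁻¹ := by
        rw [R.nbar_eq]
        have h0 : -(-b⁻¹)⁻¹ = b := by rw [inv_neg, inv_inv, neg_neg]
        rw [h0]
        have h1 : R.X (D.simple i) b⁻¹ * R.X (D.simple i) (-b⁻¹) = 1 := by
          rw [R.add _ F.hp, add_neg_cancel, R.X_zero _ F.hp]
        have h2 : R.X (D.simple i) (-b⁻¹) * R.X (D.simple i) b⁻¹ = 1 := by
          rw [R.add _ F.hp, neg_add_cancel, R.X_zero _ F.hp]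
        calc R.X (D.neg (D.simple i)) b
            = (R.X (D.simple i) b⁻¹ * R.X (D.simple i) (-b⁻¹)) * R.X (D.neg (D.simple i)) b *
              (R.X (D.simple i) (-b⁻¹) * R.X (D.simple i) b⁻¹) := by
              rw [h1, h2, one_mul, mul_one]
          _ = _ := by simp only [mul_assoc]
      refine ⟨R.X (D.simple i) b⁻¹, ?_, (i, -b⁻¹) :: w, ?_,
        R.X (D.neg (wW' Bs (w.map Prod.fst) (D.neg (D.simple i)))) (c' * b⁻¹) * u', ?_, ?_⟩
      · exact R.X_mem_UL _ _ ((mem_posL F.even _).2 ⟨F.hposp, F.hp⟩) _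
      · intro x hx
        rcases List.mem_cons.1 hx with rfl | hx
        · exact ⟨hi, neg_ne_zero.2 (inv_ne_zero hb)⟩
        · exact hw x hx
      · exact Subgroup.mul_mem _ (R.X_mem_UL _ _ ((mem_posL F.even _).2 ⟨hns, hnslt⟩) _) hu'
      · rw [hZ, nW_cons]
        calc R.X (D.simple i) b⁻¹ * R.nbar (D.simple i) (-b⁻¹) * R.X (D.simple i) b⁻¹ * R.nW w * u'
            = R.X (D.simple i) b⁻¹ * R.nbar (D.simple i) (-b⁻¹) *
                (R.X (D.simple i) b⁻¹ * R.nW w) * u' := by simp only [mul_assoc]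
          _ = _ := by
            rw [e2]
            simp only [mul_assoc]

/-- `Ū N̄ Ū` is stable under left multiplication by `n_i(τ)` -/
theorem nbar_mul_mem (i : ℕ) (hi : i < D.rank) (τ : K) (hτ : τ ≠ 0) (g : Γ) (hg : g ∈ R.YY) :
    R.nbar (D.simple i) τ * g ∈ R.YY := by
  obtain ⟨u, hu, w, hw, u', hu', rfl⟩ := hg
  have F := C.facts R.hadd i hi
  have hgood : GoodL D (D.simple i :: posNot D (D.simple i)) :=
    ⟨⟨F.hp, fun s hs => ⟨goodL_lt F.posOK.good s hs, (F.posOK.ne s hs).1, (F.posOK.ne s hs).2,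
      F.posOK.termsP s hs⟩⟩, F.posOK.good⟩
  have hle : R.UL (posL D) ≤ R.UL (D.simple i :: posNot D (D.simple i)) := by
    apply R.UL_mono
    intro r hr
    by_cases hrp : r = D.simple i
    · rw [hrp]; exact List.mem_cons_self
    · exact List.mem_cons_of_mem _ ((mem_posNot F.even _ r).2 ⟨(mem_posL F.even r).1 hr, hrp⟩)
  have hsub : R.UL (posNot D (D.simple i)) ≤ R.UL (posL D) := by
    apply R.UL_mono
    intro r hr
    exact (mem_posL F.even r).2 ((mem_posNot F.even _ r).1 hr).1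
  have hu2 := hle hu
  rw [R.UL_cons, ← SetLike.mem_coe, Subgroup.coe_mul_of_left_le_normalizer_right _ _
    (R.XS_le_normalizer_UL _ _ hgood), Set.mem_mul] at hu2
  obtain ⟨x, hx, u1, hu1, rfl⟩ := hu2
  obtain ⟨a, rfl⟩ := (R.mem_XS_iff _ F.hp x).1 hx
  obtain ⟨c, hc, e⟩ := R.nbar_conj F τ hτ (D.simple i) F.hp
  rw [F.wp] at e
  have h2 := conj_mem_nzr _ _ _ (R.nbar_mem_normalizer F _ F.posOK τ) hu1
  have h3 := conj_mem_nzr _ _ _ (R.Xq_mem_normalizer F _ F.posOK (c * a)) h2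
  have key := R.Xq_mul_mem C i hi (c * a) ((i, τ) :: w) (by
    intro y hy
    rcases List.mem_cons.1 hy with rfl | hy
    · exact ⟨hi, hτ⟩
    · exact hw y hy) u' hu'
  have := R.U_mul_mem _ (hsub h3) _ key
  convert this using 1
  rw [nW_cons, ← e a]
  simp only [mul_assoc, inv_mul_cancel_left]
  simp [mul_assoc]

end RData

end Cfsg.Agent.Lib.Helper5.St
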