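import Cfsg.Agent.Lib.Helper5.St.Main
import Cfsg.Agent.Lib.Helper5.St.HKer
import Mathlib

/-!
# The kernel of the presented group lies in `H̄` (helper5)
-/

set_option autoImplicit false

namespace Cfsg.Agent.Lib.Helper5.St

open Cfsg.Lie Cfsg.Agent.Lib.Helper5.Chev Cfsg.Agent.Lib.Helper5.Tw
open scoped Matrix

variable {K : Type*} [Field K] {D : ChevalleyDatum}

omit [Field K] in
theorem mk_stWord (rels : Set (FreeGroup (Fin D.nroots × K))) (w : List (ℕ × K)) :
    PresentedGroup.mk rels (D.stWord w)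
      = wordG (fun r t => PresentedGroup.mk rels (D.stX r t)) w := by
  unfold ChevalleyDatum.stWord wordG
  rw [map_list_prod, List.map_map]
  rfl

namespace RData

variable {Γ : Type*} [Group Γ] (R : RData K D Γ)

/-- the kernel lies in the subgroup generated by the `h̄_i(t)` -/
theorem ker_le_H0' : R.θ.ker ≤ R.H0 := by
  obtain ⟨T, Bs, gH, baseH, fuel, C⟩ := stCtx_known K D R.hD
  exact R.ker_le_H0 C

/-- a homomorphism matching the root elements is the canonical one -/
theorem hom_eq_thetaG (θ' : Γ →* ↥(D.group K))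
    (h : ∀ r < D.nroots, ∀ t : K,
      (((θ' (R.X r t) : ↥(D.group K)) : GL D.Idx K) : Matrix D.Idx D.Idx K) = D.x K r t) :
    θ' = R.thetaG := by
  apply MonoidHom.eq_of_eqOn_dense R.gen
  rintro g ⟨r, hr, t, rfl⟩
  apply Subtype.ext
  apply Units.ext
  rw [h r hr t, R.thetaG_X r hr t]

theorem hbar_eq_wordG (i : ℕ) (t : K) :
    R.hbar i t = wordG R.X (D.hWord (D.simple i) t) := by
  unfold hbar nbar ChevalleyDatum.hWord
  rw [wordG_append]

end RData

theorem steinberg_hbar (hD : D ∈ [chevG2, chevB2, chevD4, chevF4, chevE6, chevE7, chevE8])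
    (i : ℕ) (t : K) :
    (steinbergRData (K := K) hD).hbar i t
      = PresentedGroup.mk (D.steinbergRels K) (D.stH (D.simple i) t) := by
  rw [RData.hbar_eq_wordG]
  unfold ChevalleyDatum.stH
  rw [mk_stWord]
  rfl

theorem cover_hbar (hD : D ∈ [chevG2, chevB2, chevD4, chevF4, chevE6, chevE7, chevE8])
    (i : ℕ) (t : K) :
    (coverRData (K := K) hD).hbar i t
      = PresentedGroup.mk (D.steinbergRelsAB K) (D.stH (D.simple i) t) := by
  rw [RData.hbar_eq_wordG]
  unfold ChevalleyDatum.stH
  rw [mk_stWord]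
  rfl

end Cfsg.Agent.Lib.Helper5.St
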