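import Cfsg.Agent.Lib.Helper5.St.Main2
import Mathlib

/-!
# The presented group has trivial centre when the Cartan matrix is unimodular (helper5)
-/

set_option autoImplicit false

namespace Cfsg.Agent.Lib.Helper5.St

open Cfsg.Lie Cfsg.Agent.Lib.Helper5.Chev Cfsg.Agent.Lib.Helper5.Tw
open scoped Matrix

theorem zpow_finset_sum' {M ι : Type*} [CommGroup M] (a : M) (f : ι → ℤ) (s : Finset ι) :
    a ^ (∑ i ∈ s, f i) = ∏ i ∈ s, a ^ f i := by
  classical
  induction s using Finset.induction_on with
  | empty => simp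
  | insert i s hi ih => rw [Finset.sum_insert hi, Finset.prod_insert hi, zpow_add, ih]

/-- a family with trivial monomials for the columns of a unimodular matrix is trivial -/
theorem unimod_trivial {l : ℕ} {M : Type*} [CommGroup M] (A B : Fin l → Fin l → ℤ)
    (hAB : ∀ k m, ∑ j, A k j * B j m = if k = m then 1 else 0) (t : Fin l → M)
    (h : ∀ j, ∏ k, t k ^ A k j = 1) (m : Fin l) : t m = 1 := by
  have h0 : t m = ∏ k, t k ^ (∑ j, A k j * B j m) := by
    rw [Finset.prod_eq_single m]
    · rw [hAB, if_pos rfl, zpow_one]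
    · intro k _ hk
      rw [hAB, if_neg hk, zpow_zero]
    · intro hm
      exact absurd (Finset.mem_univ m) hm
  rw [h0]
  calc ∏ k, t k ^ (∑ j, A k j * B j m) = ∏ k, ∏ j, (t k ^ A k j) ^ B j m := by
        apply Finset.prod_congr rfl
        intro k _
        rw [zpow_finset_sum']
        apply Finset.prod_congr rfl
        intro j _
        rw [zpow_mul]
    _ = ∏ j, ∏ k, (t k ^ A k j) ^ B j m := Finset.prod_comm
    _ = ∏ j, (∏ k, t k ^ A k j) ^ B j m := by
        apply Finset.prod_congr rfl
        intro j _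
        rw [Finset.prod_zpow]
    _ = 1 := by
        apply Finset.prod_eq_one
        intro j _
        rw [h j, one_zpow]

variable {K : Type*} [Field K] {D : ChevalleyDatum}

/-- the diagonal matrix of a family of units, as a homomorphism -/
def diagHom (K : Type*) [Field K] (D : ChevalleyDatum) : (D.Idx → Kˣ) →* GL D.Idx K where
  toFun d := ⟨Matrix.diagonal fun x => ((d x : Kˣ) : K), Matrix.diagonal fun x => (((d x)⁻¹ : Kˣ) : K),
    by
      rw [Matrix.diagonal_mul_diagonal, ← Matrix.diagonal_one]
      congr 1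
      ext x
      simp,
    by
      rw [Matrix.diagonal_mul_diagonal, ← Matrix.diagonal_one]
      congr 1
      ext x
      simp⟩
  map_one' := by
    apply Units.ext
    show Matrix.diagonal (fun x => (((1 : D.Idx → Kˣ) x : Kˣ) : K)) = 1
    rw [← Matrix.diagonal_one]
    congr 1
  map_mul' a b := by
    apply Units.ext
    show Matrix.diagonal (fun x => (((a * b) x : Kˣ) : K))
      = Matrix.diagonal (fun x => ((a x : Kˣ) : K)) * Matrix.diagonal (fun x => ((b x : Kˣ) : K))
    rw [Matrix.diagonal_mul_diagonal]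
    congr 1

theorem diagHom_injective : Function.Injective (diagHom K D) := by
  intro a b h
  have h1 : Matrix.diagonal (fun x => ((a x : Kˣ) : K)) = Matrix.diagonal (fun x => ((b x : Kˣ) : K)) :=
    congrArg Units.val h
  funext x
  apply Units.ext
  have := congrFun (congrFun h1 x) x
  rwa [Matrix.diagonal_apply_eq, Matrix.diagonal_apply_eq] at this

/-- the weight of `h_{p_k}(t)` as a homomorphism -/
def weightHom (K : Type*) [Field K] (D : ChevalleyDatum) (k : ℕ) : Kˣ →* (D.Idx → Kˣ) where
  toFun t := Sum.elim (fun _ => 1) (fun s => t ^ (D.cartan k s.val))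
  map_one' := by
    funext x
    rcases x with j | s
    · rfl
    · simp
  map_mul' a b := by
    funext x
    rcases x with j | s
    · simp
    · simp [mul_zpow]

namespace RData

variable {Γ : Type*} [Group Γ] (R : RData K D Γ)

theorem hbar_one (i : ℕ) (hi : i < D.rank) : R.hbar i 1 = 1 := by
  obtain ⟨hp, hq⟩ := simple_lt_all D R.hD i hi
  unfold hbar
  rw [← R.nbar_inv _ hp hq 1, mul_inv_cancel]

/-- `h̄_i` as a homomorphism, under (R3) -/
def hhom (hmul : ∀ i < D.rank, ∀ t₁ t₂ : K, t₁ ≠ 0 → t₂ ≠ 0 →
    R.hbar i t₁ * R.hbar i t₂ = R.hbar i (t₁ * t₂)) (i : Fin D.rank) : Kˣ →* Γ where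
  toFun t := R.hbar i (t : K)
  map_one' := by
    rw [Units.val_one]
    exact R.hbar_one i i.2
  map_mul' a b := by
    rw [Units.val_mul]
    exact (hmul i i.2 a b a.ne_zero b.ne_zero).symm

theorem theta_hbar (i : ℕ) (hi : i < D.rank) (t : Kˣ) :
    R.θ (R.hbar i (t : K)) = diagHom K D (weightHom K D i t) := by
  obtain ⟨hp, hq⟩ := simple_lt_all D R.hD i hi
  apply Units.ext
  unfold hbar
  rw [map_mul, R.theta_nbar _ hp hq, R.theta_nbar _ hp hq, Units.val_mul, R.hadd.wordU_val,
    R.hadd.wordU_val]
  have e : D.wordMat K (D.nWord (D.simple i) (t : K)) * D.wordMat K (D.nWord (D.simple i) (-1))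
      = D.hMat K (D.simple i) (t : K) := by
    unfold ChevalleyDatum.hMat ChevalleyDatum.hWord ChevalleyDatum.wordMat
    rw [List.map_append, List.prod_append]
  rw [e, hMat_simple_all D R.hD i hi _ t.ne_zero]
  unfold dK
  show _ = Matrix.diagonal (fun x => ((weightHom K D i t x : Kˣ) : K))
  congr 1
  funext x
  rcases x with j | s
  · simp [weightHom]
  · simp [weightHom]

end RData

end Cfsg.Agent.Lib.Helper5.St
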