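import Cfsg.Agent.Lib.Helper5.St.RankOneFin
import Cfsg.Agent.Lib.Helper5.St.Unimod
import Mathlib

/-!
# Over a finite field the relations (R3) follow from (R1), (R2) (helper5)
-/

set_option autoImplicit false

namespace Cfsg.Agent.Lib.Helper5.St

open Cfsg.Lie Cfsg.Agent.Lib.Helper5.Chev Cfsg.Agent.Lib.Helper5.Tw
open scoped Matrix

theorem StCtx.cartan_simple_self {K : Type*} [Field K] {D : ChevalleyDatum} {T : FD}
    {Bs : List ℕ} {gH : ℕ} {baseH : List ℕ} {fuel : ℕ} (C : StCtx K D T Bs gH baseH fuel)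
    (i : ℕ) (hi : i < D.rank) : D.cartan i (D.simple i) = 2 := by
  have hcert := (C.hB i hi).cert C.hA
  have hp := simple_lt' C.hA hi
  rw [FD.cartan_eq' C.hA i _ hi hp, FD.simple_eq' C.hA i hi]
  exact hcert.a_i

namespace RData

variable {K : Type*} [Field K] {D : ChevalleyDatum} {Γ : Type*} [Group Γ] (R : RData K D Γ)
  {T : FD} {Bs : List ℕ} {gH : ℕ} {baseH : List ℕ} {fuel : ℕ}
  (C : StCtx K D T Bs gH baseH fuel)

include C

/-- conjugation by `n̄_i(τ)` with the constant of the Chevalley group -/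
theorem nbar_conj_explicit (i : ℕ) (hi : i < D.rank) (τ : K) (hτ : τ ≠ 0) (s : ℕ)
    (hs : s < D.nroots) (u : K) :
    R.nbar (D.simple i) τ * R.X s u * (R.nbar (D.simple i) τ)⁻¹
      = R.X (wOf (Bs.getD i 0) s)
        (τ ^ (D.cartan i (wOf (Bs.getD i 0) s)) * ((etaOf (Bs.getD i 0) s : ℤ) : K) * u) := by
  have F := C.facts R.hadd i hi
  have hws := F.wlt s hs
  obtain ⟨c1, hc1, e1⟩ := R.nbar_conj F τ hτ s hs
  have k1 : c1 = τ ^ (D.cartan i (wOf (Bs.getD i 0) s)) * ((etaOf (Bs.getD i 0) s : ℤ) : K) := by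
    have := congrArg R.θ (e1 1)
    rw [map_mul, map_mul, map_inv, R.theta_nbar _ F.hp F.hq, R.hθ s hs, R.hθ _ hws,
      gconj_explicit C.hD C.hA R.hadd hi (C.hB i hi) τ hτ s hs 1] at this
    have := xU_injective R.hadd _ (xInj_all D C.hD _ hws) _ _ this
    rw [mul_one, mul_one] at this
    exact this.symm
  rw [e1 u, k1]

/-- the rank one data of a fundamental root -/
def r1 (i : ℕ) (hi : i < D.rank) : R1Data K Γ where
  x := fun t => R.X (D.simple i) t
  y := fun t => R.X (D.neg (D.simple i)) t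
  x_add := fun t u => R.add _ (C.facts R.hadd i hi).hp t u
  y_add := fun t u => R.add _ (C.facts R.hadd i hi).hq t u
  wx := by
    intro t ht u
    have F := C.facts R.hadd i hi
    have hside := (C.hB i hi).side C.hA
    rw [← R.nbar_eq, R.nbar_conj_explicit C i hi t ht _ F.hp, F.wp]
    congr 1
    have e3 : t ^ (D.cartan i (D.neg (D.simple i))) = (t ^ (D.cartan i (D.simple i)))⁻¹ := by
      have h := (isRootCharacter_cartan_all (F := K) D C.hD i hi (Units.mk0 t ht)).1
        (D.simple i) F.hp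
      have h' := congrArg (fun x : Kˣ => (x : K)) h
      simpa using h'
    have e4 : etaOf (Bs.getD i 0) (D.simple i) = -1 := by
      rw [FD.simple_eq' C.hA i hi]
      exact hside.1
    rw [e3, C.cartan_simple_self i hi, e4]
    push_cast
    rw [zpow_ofNat]
    ring
  wy := by
    intro t ht u
    have F := C.facts R.hadd i hi
    have hside := (C.hB i hi).side C.hA
    rw [← R.nbar_eq, R.nbar_conj_explicit C i hi t ht _ F.hq, F.wq]
    congr 1
    have e4 : etaOf (Bs.getD i 0) (D.neg (D.simple i)) = -1 := by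
      rw [FD.neg_eq' C.hA _ F.hp, FD.simple_eq' C.hA i hi]
      exact hside.2.1
    rw [C.cartan_simple_self i hi, e4]
    push_cast
    rw [zpow_ofNat]
    ring

theorem r1_w (i : ℕ) (hi : i < D.rank) (t : K) : (R.r1 C i hi).w t = R.nbar (D.simple i) t := by
  rw [R.nbar_eq]
  rfl

theorem r1_h (i : ℕ) (hi : i < D.rank) (t : K) : (R.r1 C i hi).h t = R.hbar i t := by
  unfold R1Data.h hbar
  rw [r1_w, r1_w]

/-- the defect of multiplicativity of `h̄_i` is central -/
theorem hbar_defect_central (i : ℕ) (hi : i < D.rank) (t u : K) (ht : t ≠ 0) (hu : u ≠ 0) :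
    R.hbar i t * R.hbar i u * (R.hbar i (t * u))⁻¹ ∈ Subgroup.center Γ := by
  apply R.ker_le_center C
  rw [MonoidHom.mem_ker, map_mul, map_mul, map_inv]
  have e1 := R.theta_hbar i hi (Units.mk0 t ht)
  have e2 := R.theta_hbar i hi (Units.mk0 u hu)
  have e3 := R.theta_hbar i hi (Units.mk0 t ht * Units.mk0 u hu)
  rw [Units.val_mul] at e3
  simp only [Units.val_mk0] at e1 e2 e3
  rw [e1, e2, e3, map_mul, map_mul, mul_inv_cancel]

/-- over a finite field `h̄_i` is multiplicative -/
theorem hbar_mul_fin [Fintype K] (i : ℕ) (hi : i < D.rank) (t u : K) (ht : t ≠ 0) (hu : u ≠ 0) :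
    R.hbar i t * R.hbar i u = R.hbar i (t * u) := by
  have := (R.r1 C i hi).h_mul (by
    intro t u ht hu
    rw [r1_h, r1_h, r1_h]
    exact R.hbar_defect_central C i hi t u ht hu) t u ht hu
  rw [r1_h, r1_h, r1_h] at this
  exact this

end RData

end Cfsg.Agent.Lib.Helper5.St
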