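import Cfsg.Agent.Lib.Helper5.St.R3
import Cfsg.Agent.Lib.Helper5.St.Main2
import Mathlib

/-!
# Over a finite field the relations (R3) follow from (R1), (R2): all roots, the isomorphism (helper5)
-/

set_option autoImplicit false

namespace Cfsg.Agent.Lib.Helper5.St

open Cfsg.Lie Cfsg.Agent.Lib.Helper5.Chev Cfsg.Agent.Lib.Helper5.Tw
open scoped Matrix

namespace RData

variable {K : Type*} [Field K] {D : ChevalleyDatum} {Γ : Type*} [Group Γ] (R : RData K D Γ)
  {T : FD} {Bs : List ℕ} {gH : ℕ} {baseH : List ℕ} {fuel : ℕ}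

/-- `h̄_r(t)` for any root -/
def hroot (r : ℕ) (t : K) : Γ := R.nbar r t * R.nbar r (-1)

theorem hroot_eq_wordG (r : ℕ) (t : K) : R.hroot r t = wordG R.X (D.hWord r t) := by
  unfold hroot nbar ChevalleyDatum.hWord
  rw [wordG_append]

theorem hroot_mul_inv (r : ℕ) (hr : r < D.nroots) (hq : D.neg r < D.nroots) (a b : K) :
    R.hroot r a * (R.hroot r b)⁻¹ = R.nbar r a * R.nbar r (-b) := by
  unfold hroot
  rw [mul_inv_rev, ← R.nbar_inv r hr hq b]
  simp only [mul_assoc, mul_inv_cancel_left]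

variable (C : StCtx K D T Bs gH baseH fuel)

include C

/-- conjugation of `n̄_s(t)` by `n̄_i(τ)` -/
theorem nbar_conj_nbar (i : ℕ) (hi : i < D.rank) (τ : K) (hτ : τ ≠ 0) (s : ℕ)
    (hs : s < D.nroots) : ∃ c : K, c ≠ 0 ∧ ∀ t : K,
      R.nbar (D.simple i) τ * R.nbar s t * (R.nbar (D.simple i) τ)⁻¹
        = R.nbar (wOf (Bs.getD i 0) s) (c * t) := by
  obtain ⟨c, hc, e1, e2⟩ := R.nbar_conj_pair C i hi τ hτ s hs
  refine ⟨c, hc, fun t => ?_⟩
  rw [R.nbar_eq s t, R.nbar_eq (wOf (Bs.getD i 0) s) (c * t)]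
  have h0 : -(c * t)⁻¹ = c⁻¹ * (-t⁻¹) := by
    rw [mul_inv]
    ring
  rw [h0, ← e1 t, ← e2 (-t⁻¹)]
  simp only [mul_assoc, inv_mul_cancel_left]

/-- over a finite field `h̄_r` is multiplicative for every root -/
theorem hroot_mul_fin [Fintype K] : ∀ r < D.nroots, ∀ t u : K, t ≠ 0 → u ≠ 0 →
    R.hroot r t * R.hroot r u = R.hroot r (t * u) := by
  apply reach_all C.hA (fun r => ∀ t u : K, t ≠ 0 → u ≠ 0 →
    R.hroot r t * R.hroot r u = R.hroot r (t * u)) Bs gH baseH fuel C.hr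
  · intro s hs t u ht hu
    obtain ⟨j, hj, rfl⟩ := C.hbase s hs
    exact R.hbar_mul_fin C j hj t u ht hu
  · intro i hi s hs
    exact (C.facts R.hadd i hi).wlt s hs
  · intro i hi s hs hP t u ht hu
    have F := C.facts R.hadd i hi
    have hws := F.wlt s hs
    have hnws := neg_lt_all D C.hD _ hws
    obtain ⟨c, hc, e⟩ := R.nbar_conj_nbar C i hi 1 one_ne_zero s hs
    have key : ∀ v : K, v ≠ 0 → R.nbar (D.simple i) 1 * R.hroot s v * (R.nbar (D.simple i) 1)⁻¹
        = R.hroot (wOf (Bs.getD i 0) s) v := by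
      intro v hv
      have h1 : R.nbar (D.simple i) 1 * R.hroot s v * (R.nbar (D.simple i) 1)⁻¹
          = (R.nbar (D.simple i) 1 * R.nbar s v * (R.nbar (D.simple i) 1)⁻¹) *
            (R.nbar (D.simple i) 1 * R.nbar s (-1) * (R.nbar (D.simple i) 1)⁻¹) := by
        unfold hroot
        simp only [mul_assoc, inv_mul_cancel_left]
      rw [h1, e v, e (-1), mul_neg_one, ← R.hroot_mul_inv _ hws hnws, mul_comm c v,
        ← hP v c hv hc, mul_inv_cancel_right]
    have h2 : R.nbar (D.simple i) 1 * (R.hroot s t * R.hroot s u) * (R.nbar (D.simple i) 1)⁻¹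
        = R.nbar (D.simple i) 1 * R.hroot s (t * u) * (R.nbar (D.simple i) 1)⁻¹ := by
      rw [key (t * u) (mul_ne_zero ht hu), ← hP t u ht hu, ← key t ht, ← key u hu]
      simp only [mul_assoc, inv_mul_cancel_left]
    exact mul_left_cancel (mul_right_cancel h2)

end RData

end Cfsg.Agent.Lib.Helper5.St
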