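import Mathlib

/-!
# Rank one computations in a group with two root subgroups (helper5)

`x`, `y` additive, `w(t) = x(t) y(-t⁻¹) x(t)` acting on `x`, `y` as in `SL₂`; `h(t) = w(t) w(-1)`.
-/

set_option autoImplicit false

namespace Cfsg.Agent.Lib.Helper5.St

/-- two opposite root subgroups with the action of `w(t)` -/
structure R1Data (K : Type*) [Field K] (G : Type*) [Group G] where
  x : K → G
  y : K → G
  x_add : ∀ t u : K, x t * x u = x (t + u)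
  y_add : ∀ t u : K, y t * y u = y (t + u)
  wx : ∀ t : K, t ≠ 0 → ∀ u : K,
    (x t * y (-t⁻¹) * x t) * x u * (x t * y (-t⁻¹) * x t)⁻¹ = y (-(t ^ 2)⁻¹ * u)
  wy : ∀ t : K, t ≠ 0 → ∀ u : K,
    (x t * y (-t⁻¹) * x t) * y u * (x t * y (-t⁻¹) * x t)⁻¹ = x (-(t ^ 2) * u)

namespace R1Data

variable {K : Type*} [Field K] {G : Type*} [Group G] (A : R1Data K G)

def w (t : K) : G := A.x t * A.y (-t⁻¹) * A.x t

def h (t : K) : G := A.w t * A.w (-1)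

theorem x_zero : A.x 0 = 1 := by
  have := A.x_add 0 0
  rw [add_zero] at this
  exact mul_eq_left.1 this

theorem y_zero : A.y 0 = 1 := by
  have := A.y_add 0 0
  rw [add_zero] at this
  exact mul_eq_left.1 this

theorem x_inv (t : K) : (A.x t)⁻¹ = A.x (-t) := by
  rw [inv_eq_iff_mul_eq_one, A.x_add, add_neg_cancel, A.x_zero]

theorem y_inv (t : K) : (A.y t)⁻¹ = A.y (-t) := by
  rw [inv_eq_iff_mul_eq_one, A.y_add, add_neg_cancel, A.y_zero]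

theorem w_inv (t : K) : (A.w t)⁻¹ = A.w (-t) := by
  unfold w
  rw [mul_inv_rev, mul_inv_rev, A.x_inv, A.y_inv, inv_neg, neg_neg, mul_assoc]

theorem w_conj_x (t : K) (ht : t ≠ 0) (u : K) :
    A.w t * A.x u * (A.w t)⁻¹ = A.y (-(t ^ 2)⁻¹ * u) := A.wx t ht u

theorem w_conj_y (t : K) (ht : t ≠ 0) (u : K) :
    A.w t * A.y u * (A.w t)⁻¹ = A.x (-(t ^ 2) * u) := A.wy t ht u

/-- the other form of `w(t)` -/
theorem w_eq' (t : K) (ht : t ≠ 0) : A.w t = A.y (-t⁻¹) * A.x t * A.y (-t⁻¹) := by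
  have h1 : A.w t = A.w t * A.w t * (A.w t)⁻¹ := by rw [mul_inv_cancel_right]
  have h2 : A.w t * A.w t * (A.w t)⁻¹
      = (A.w t * A.x t * (A.w t)⁻¹) * (A.w t * A.y (-t⁻¹) * (A.w t)⁻¹) *
        (A.w t * A.x t * (A.w t)⁻¹) := by
    conv_lhs => rw [show A.w t * A.w t = A.w t * (A.x t * A.y (-t⁻¹) * A.x t) from rfl]
    simp only [mul_assoc, inv_mul_cancel_left]
  rw [h1, h2, A.w_conj_x t ht, A.w_conj_y t ht]
  have e1 : -(t ^ 2)⁻¹ * t = -t⁻¹ := by field_simp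
  have e2 : -(t ^ 2) * -t⁻¹ = t := by field_simp
  rw [e1, e2]

theorem w_conj_w (a b : K) (ha : a ≠ 0) (hb : b ≠ 0) :
    A.w a * A.w b * (A.w a)⁻¹ = A.w (a ^ 2 * b⁻¹) := by
  have h2 : A.w a * A.w b * (A.w a)⁻¹
      = (A.w a * A.x b * (A.w a)⁻¹) * (A.w a * A.y (-b⁻¹) * (A.w a)⁻¹) *
        (A.w a * A.x b * (A.w a)⁻¹) := by
    conv_lhs => rw [show A.w b = A.x b * A.y (-b⁻¹) * A.x b from rfl]
    simp only [mul_assoc, inv_mul_cancel_left]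
  rw [h2, A.w_conj_x a ha, A.w_conj_y a ha,
    A.w_eq' (a ^ 2 * b⁻¹) (mul_ne_zero (pow_ne_zero 2 ha) (inv_ne_zero hb))]
  have e1 : -(a ^ 2)⁻¹ * b = -(a ^ 2 * b⁻¹)⁻¹ := by field_simp
  have e2 : -(a ^ 2) * -b⁻¹ = a ^ 2 * b⁻¹ := by ring
  rw [e1, e2]

theorem h_conj_x (t : K) (ht : t ≠ 0) (u : K) :
    A.h t * A.x u * (A.h t)⁻¹ = A.x (t ^ 2 * u) := by
  unfold h
  have h1 : A.w t * A.w (-1) * A.x u * (A.w t * A.w (-1))⁻¹
      = A.w t * (A.w (-1) * A.x u * (A.w (-1))⁻¹) * (A.w t)⁻¹ := by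
    rw [mul_inv_rev]
    simp only [mul_assoc]
  rw [h1, A.w_conj_x (-1) (neg_ne_zero.2 one_ne_zero), A.w_conj_y t ht]
  congr 1
  ring

theorem h_conj_y (t : K) (ht : t ≠ 0) (u : K) :
    A.h t * A.y u * (A.h t)⁻¹ = A.y ((t ^ 2)⁻¹ * u) := by
  unfold h
  have h1 : A.w t * A.w (-1) * A.y u * (A.w t * A.w (-1))⁻¹
      = A.w t * (A.w (-1) * A.y u * (A.w (-1))⁻¹) * (A.w t)⁻¹ := by
    rw [mul_inv_rev]
    simp only [mul_assoc]
  rw [h1, A.w_conj_y (-1) (neg_ne_zero.2 one_ne_zero), A.w_conj_x t ht]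
  congr 1
  ring

theorem h_conj_w (t : K) (ht : t ≠ 0) (u : K) (_hu : u ≠ 0) :
    A.h t * A.w u * (A.h t)⁻¹ = A.w (t ^ 2 * u) := by
  have h2 : A.h t * A.w u * (A.h t)⁻¹
      = (A.h t * A.x u * (A.h t)⁻¹) * (A.h t * A.y (-u⁻¹) * (A.h t)⁻¹) *
        (A.h t * A.x u * (A.h t)⁻¹) := by
    conv_lhs => rw [show A.w u = A.x u * A.y (-u⁻¹) * A.x u from rfl]
    simp only [mul_assoc, inv_mul_cancel_left]
  rw [h2, A.h_conj_x t ht, A.h_conj_y t ht]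
  have e1 : (t ^ 2)⁻¹ * -u⁻¹ = -(t ^ 2 * u)⁻¹ := by
    rw [mul_inv]
    ring
  rw [e1]
  rfl

theorem h_mul_inv (a b : K) : A.h a * (A.h b)⁻¹ = A.w a * A.w (-b) := by
  unfold h
  rw [mul_inv_rev, ← A.w_inv b]
  simp only [mul_assoc, mul_inv_cancel_left]

theorem w_mul_w (a b : K) : A.w a * A.w b = A.h a * (A.h (-b))⁻¹ := by
  rw [A.h_mul_inv, neg_neg]

theorem h_one : A.h 1 = 1 := by
  unfold h
  rw [← A.w_inv, mul_inv_cancel]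

theorem h_conj_h (t : K) (ht : t ≠ 0) (u : K) (hu : u ≠ 0) :
    A.h t * A.h u * (A.h t)⁻¹ = A.h (t ^ 2 * u) * (A.h (t ^ 2))⁻¹ := by
  have h1 : A.h t * A.h u * (A.h t)⁻¹
      = (A.h t * A.w u * (A.h t)⁻¹) * (A.h t * A.w (-1) * (A.h t)⁻¹) := by
    conv_lhs => rw [show A.h u = A.w u * A.w (-1) from rfl]
    simp only [mul_assoc, inv_mul_cancel_left]
  rw [h1, A.h_conj_w t ht u hu, A.h_conj_w t ht (-1) (neg_ne_zero.2 one_ne_zero), A.h_mul_inv]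
  congr 2
  ring

/-- `y(a) = x(a⁻¹) w(-a⁻¹) x(a⁻¹)` -/
theorem y_eq (a : K) : A.y a = A.x a⁻¹ * A.w (-a⁻¹) * A.x a⁻¹ := by
  unfold w
  rw [inv_neg, inv_inv, neg_neg]
  have : A.x a⁻¹ * A.x (-a⁻¹) = 1 := by rw [A.x_add, add_neg_cancel, A.x_zero]
  have h2 : A.x (-a⁻¹) * A.x a⁻¹ = 1 := by rw [A.x_add, neg_add_cancel, A.x_zero]
  calc A.y a = (A.x a⁻¹ * A.x (-a⁻¹)) * A.y a * (A.x (-a⁻¹) * A.x a⁻¹) := by
        rw [this, h2, one_mul, mul_one]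
    _ = _ := by simp only [mul_assoc]

/-- `x(r) = y(r⁻¹) w(r) y(r⁻¹)` -/
theorem x_eq (r : K) (hr : r ≠ 0) : A.x r = A.y r⁻¹ * A.w r * A.y r⁻¹ := by
  rw [A.w_eq' r hr]
  have : A.y r⁻¹ * A.y (-r⁻¹) = 1 := by rw [A.y_add, add_neg_cancel, A.y_zero]
  have h2 : A.y (-r⁻¹) * A.y r⁻¹ = 1 := by rw [A.y_add, neg_add_cancel, A.y_zero]
  calc A.x r = (A.y r⁻¹ * A.y (-r⁻¹)) * A.x r * (A.y (-r⁻¹) * A.y r⁻¹) := by
        rw [this, h2, one_mul, mul_one]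
    _ = _ := by simp only [mul_assoc]

end R1Data

end Cfsg.Agent.Lib.Helper5.St
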