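import Cfsg.Agent.Lib.Helper5.St.RankOne
import Mathlib

/-!
# Rank one computations: the two decompositions of `y(a) x(b)` (helper5)
-/

set_option autoImplicit false

namespace Cfsg.Agent.Lib.Helper5.St

namespace R1Data

variable {K : Type*} [Field K] {G : Type*} [Group G] (A : R1Data K G)

theorem w_mul_x (t : K) (ht : t ≠ 0) (u : K) :
    A.w t * A.x u = A.y (-(t ^ 2)⁻¹ * u) * A.w t := by
  rw [← A.w_conj_x t ht u]
  simp only [mul_assoc, inv_mul_cancel, mul_one]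

theorem x_mul_w (t : K) (ht : t ≠ 0) (u : K) :
    A.x u * A.w t = A.w t * A.y (-(t ^ 2)⁻¹ * u) := by
  have h1 := A.w_conj_x (-t) (neg_ne_zero.2 ht) u
  rw [← A.w_inv, inv_inv, neg_sq] at h1
  rw [← h1]
  simp only [mul_assoc, mul_inv_cancel_left]

/-- first decomposition of `y(a) x(b)` -/
theorem yx_first (a b : K) (ha : a ≠ 0) (hc : 1 + a * b ≠ 0) :
    A.y a * A.x b = A.x (b / (1 + a * b)) * (A.w ((a * (1 + a * b))⁻¹) * A.w (-a⁻¹)) *
      A.y (a / (1 + a * b)) := by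
  have hac : a * (1 + a * b) ≠ 0 := mul_ne_zero ha hc
  have hna : -a⁻¹ ≠ 0 := neg_ne_zero.2 (inv_ne_zero ha)
  have e1 : -((-a⁻¹) ^ 2)⁻¹ * (a⁻¹ + b) = -(a * (1 + a * b)) := by
    field_simp
  have e2 : (-(a * (1 + a * b)))⁻¹ = -(a * (1 + a * b))⁻¹ := by rw [inv_neg]
  have e3 : a⁻¹ + -(a * (1 + a * b))⁻¹ = b / (1 + a * b) := by
    field_simp
    ring
  have e4 : -((-a⁻¹) ^ 2)⁻¹ * -(a * (1 + a * b))⁻¹ = a / (1 + a * b) := by
    field_simp
  calc A.y a * A.x b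
      = A.x a⁻¹ * A.w (-a⁻¹) * A.x a⁻¹ * A.x b := by rw [← A.y_eq a]
    _ = A.x a⁻¹ * (A.w (-a⁻¹) * A.x (a⁻¹ + b)) := by
        rw [← A.x_add a⁻¹ b]
        simp only [mul_assoc]
    _ = A.x a⁻¹ * (A.y (-(a * (1 + a * b))) * A.w (-a⁻¹)) := by
        rw [A.w_mul_x _ hna, e1]
    _ = A.x a⁻¹ * (A.x (-(a * (1 + a * b))⁻¹) * A.w ((a * (1 + a * b))⁻¹) *
          A.x (-(a * (1 + a * b))⁻¹) * A.w (-a⁻¹)) := by
        rw [A.y_eq (-(a * (1 + a * b))), e2, neg_neg]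
    _ = A.x (a⁻¹ + -(a * (1 + a * b))⁻¹) * A.w ((a * (1 + a * b))⁻¹) *
          (A.x (-(a * (1 + a * b))⁻¹) * A.w (-a⁻¹)) := by
        rw [← A.x_add]
        simp only [mul_assoc]
    _ = _ := by
        rw [A.x_mul_w _ hna, e3, e4]
        simp only [mul_assoc]

/-- second decomposition of `y(a) x(b)` -/
theorem yx_second (a b : K) (hb : b ≠ 0) (hc : 1 + a * b ≠ 0) :
    A.y a * A.x b = A.x (b / (1 + a * b)) * (A.w (-(b / (1 + a * b))) * A.w b) *
      A.y (a / (1 + a * b)) := by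
  have e1 : (a + b⁻¹)⁻¹ = b / (1 + a * b) := by
    have h : a + b⁻¹ = (1 + a * b) / b := by
      field_simp
      ring
    rw [h, inv_div]
  have e2 : -(b ^ 2)⁻¹ * (b / (1 + a * b)) + b⁻¹ = a / (1 + a * b) := by
    have h2 : (1 + a * b) * (-(b ^ 2)⁻¹ * (b / (1 + a * b)) + b⁻¹) = a := by
      field_simp
      ring
    rw [eq_div_iff hc, mul_comm]
    exact h2
  calc A.y a * A.x b
      = A.y a * (A.y b⁻¹ * A.w b * A.y b⁻¹) := by rw [← A.x_eq b hb]
    _ = A.y (a + b⁻¹) * A.w b * A.y b⁻¹ := by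
        rw [← A.y_add]
        simp only [mul_assoc]
    _ = A.x (b / (1 + a * b)) * A.w (-(b / (1 + a * b))) * (A.x (b / (1 + a * b)) * A.w b) *
          A.y b⁻¹ := by
        rw [A.y_eq (a + b⁻¹), e1]
        simp only [mul_assoc]
    _ = A.x (b / (1 + a * b)) * A.w (-(b / (1 + a * b))) * A.w b *
          (A.y (-(b ^ 2)⁻¹ * (b / (1 + a * b))) * A.y b⁻¹) := by
        rw [A.x_mul_w b hb]
        simp only [mul_assoc]
    _ = _ := by
        rw [A.y_add, e2]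
        simp only [mul_assoc]

/-- the relation between the elements `w` coming from the two decompositions -/
theorem w_bruhat (a b : K) (ha : a ≠ 0) (hb : b ≠ 0) (hc : 1 + a * b ≠ 0) :
    A.w ((a * (1 + a * b))⁻¹) * A.w (-a⁻¹) = A.w (-(b / (1 + a * b))) * A.w b := by
  have h1 := A.yx_first a b ha hc
  rw [A.yx_second a b hb hc] at h1
  exact (mul_left_cancel (mul_right_cancel h1)).symm

/-- the same in terms of the elements `h` -/
theorem h_bruhat (a b : K) (ha : a ≠ 0) (hb : b ≠ 0) (hc : 1 + a * b ≠ 0) :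
    A.h ((a * (1 + a * b))⁻¹) * (A.h a⁻¹)⁻¹ = A.h (-(b / (1 + a * b))) * (A.h (-b))⁻¹ := by
  have := A.w_bruhat a b ha hb hc
  rw [A.w_mul_w, A.w_mul_w, neg_neg] at this
  exact this

end R1Data

end Cfsg.Agent.Lib.Helper5.St
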