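import Cfsg.Agent.Lib.Helper5.St.Unimod
import Mathlib

/-!
# The presented group has trivial centre when the Cartan matrix is unimodular, continued (helper5)
-/

set_option autoImplicit false

namespace Cfsg.Agent.Lib.Helper5.St

open Cfsg.Lie Cfsg.Agent.Lib.Helper5.Chev Cfsg.Agent.Lib.Helper5.Tw
open scoped Matrix

namespace RData

variable {K : Type*} [Field K] {D : ChevalleyDatum} {Γ : Type*} [Group Γ] (R : RData K D Γ)
  {T : FD} {Bs : List ℕ} {gH : ℕ} {baseH : List ℕ} {fuel : ℕ}
  (C : StCtx K D T Bs gH baseH fuel)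
  (hmul : ∀ i < D.rank, ∀ t₁ t₂ : K, t₁ ≠ 0 → t₂ ≠ 0 →
    R.hbar i t₁ * R.hbar i t₂ = R.hbar i (t₁ * t₂))

include C hmul

/-- under (R3) the elements `h̄_i(t)` commute -/
theorem hbar_commute (i j : ℕ) (hi : i < D.rank) (hj : j < D.rank) (t u : K) (ht : t ≠ 0)
    (hu : u ≠ 0) : Commute (R.hbar i t) (R.hbar j u) := by
  have F := C.facts R.hadd i hi
  have hmem : R.hbar j u ∈ R.H0 := Subgroup.subset_closure ⟨j, hj, u, hu, rfl⟩
  obtain ⟨a, ha, e⟩ := R.H0_le_stabN C i hi hmem
  have e1 : (R.hbar j u)⁻¹ * R.hbar i t * R.hbar j u = R.hbar i t := by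
    have h1 : (R.hbar j u)⁻¹ * R.hbar i t * R.hbar j u
        = R.nbar (D.simple i) (a * t) * R.nbar (D.simple i) (a * (-1)) := by
      rw [← e t, ← e (-1)]
      unfold hbar
      simp only [mul_assoc, mul_inv_cancel_left]
    have h2 : R.nbar (D.simple i) (a * t) * R.nbar (D.simple i) (a * (-1))
        = R.hbar i (a * t) * (R.hbar i a)⁻¹ := by
      unfold hbar
      rw [mul_inv_rev, R.nbar_inv _ F.hp F.hq a, mul_neg_one]
      simp only [mul_assoc, mul_inv_cancel_left]
    rw [h1, h2, mul_comm a t, ← hmul i hi t a ht ha, mul_assoc, mul_inv_cancel, mul_one]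
  show R.hbar i t * R.hbar j u = R.hbar j u * R.hbar i t
  calc R.hbar i t * R.hbar j u = R.hbar j u * ((R.hbar j u)⁻¹ * R.hbar i t * R.hbar j u) := by
        simp only [mul_assoc, mul_inv_cancel_left]
    _ = R.hbar j u * R.hbar i t := by rw [e1]

/-- the kernel is trivial when the Cartan matrix has an integral inverse -/
theorem ker_eq_bot_of_unimod (B : Fin D.rank → Fin D.rank → ℤ)
    (hB : ∀ k m : Fin D.rank,
      ∑ j : Fin D.rank, D.cartan k (D.simple j) * B j m = if k = m then 1 else 0) :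
    R.θ.ker = ⊥ := by
  classical
  rw [eq_bot_iff]
  intro z hz
  rw [Subgroup.mem_bot]
  have hzH := R.ker_le_H0 C hz
  have hcomm : Pairwise fun i j : Fin D.rank =>
      ∀ x y : Kˣ, Commute (R.hhom hmul i x) (R.hhom hmul j y) :=
    fun i j _ x y => R.hbar_commute C hmul i j i.2 j.2 _ _ x.ne_zero y.ne_zero
  have hrange : R.H0 ≤ (MonoidHom.noncommPiCoprod (R.hhom hmul) hcomm).range := by
    rw [MonoidHom.noncommPiCoprod_range]
    unfold H0
    rw [Subgroup.closure_le]
    rintro h ⟨i, hi, t, ht, rfl⟩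
    have : R.hbar i t ∈ (R.hhom hmul ⟨i, hi⟩).range := ⟨Units.mk0 t ht, rfl⟩
    exact (le_iSup (fun i => (R.hhom hmul i).range) ⟨i, hi⟩) this
  obtain ⟨t, rfl⟩ := hrange hzH
  -- the image in the Chevalley group
  have key : R.θ.comp (MonoidHom.noncommPiCoprod (R.hhom hmul) hcomm)
      = (diagHom K D).comp
        (∏ k : Fin D.rank, (weightHom K D k).comp (Pi.evalMonoidHom (fun _ => Kˣ) k)) := by
    apply MonoidHom.pi_ext
    intro i x
    rw [MonoidHom.comp_apply, MonoidHom.comp_apply, MonoidHom.noncommPiCoprod_mulSingle,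
      MonoidHom.finsetProd_apply]
    show R.θ (R.hbar i (x : K)) = _
    rw [R.theta_hbar i i.2 x]
    congr 1
    rw [Finset.prod_eq_single i]
    · rw [MonoidHom.comp_apply]
      show _ = weightHom K D i ((Pi.mulSingle i x : Fin D.rank → Kˣ) i)
      rw [Pi.mulSingle_eq_same]
    · intro k _ hk
      rw [MonoidHom.comp_apply]
      show weightHom K D k ((Pi.mulSingle i x : Fin D.rank → Kˣ) k) = 1
      rw [Pi.mulSingle_eq_of_ne hk, map_one]
    · intro hi
      exact absurd (Finset.mem_univ i) hi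
  have h1 : (diagHom K D) ((∏ k : Fin D.rank,
      (weightHom K D k).comp (Pi.evalMonoidHom (fun _ => Kˣ) k)) t) = 1 := by
    have := DFunLike.congr_fun key t
    rw [MonoidHom.comp_apply, MonoidHom.comp_apply] at this
    rw [← this]
    exact MonoidHom.mem_ker.1 hz
  have h2 : (∏ k : Fin D.rank,
      (weightHom K D k).comp (Pi.evalMonoidHom (fun _ => Kˣ) k)) t = 1 :=
    diagHom_injective (h1.trans (map_one _).symm)
  rw [MonoidHom.finsetProd_apply] at h2
  have h3 : ∀ j : Fin D.rank, ∏ k : Fin D.rank, t k ^ (D.cartan k (D.simple j)) = 1 := by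
    intro j
    obtain ⟨hp, -⟩ := simple_lt_all D R.hD j j.2
    have := congrFun h2 (Sum.inr ⟨D.simple j, hp⟩)
    rw [Finset.prod_apply] at this
    exact this
  have h4 := unimod_trivial (fun k j : Fin D.rank => D.cartan k (D.simple j)) B hB t h3
  have h5 : t = 1 := funext h4
  rw [h5, map_one]

end RData

end Cfsg.Agent.Lib.Helper5.St
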