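import Cfsg.Agent.Lib.Helper5.St.Checks
import Cfsg.Agent.Lib.Helper5.Chev.MonoB
import Mathlib

/-!
# The action of the elements `n_p(τ)` on the root elements of the abstract group (helper5)
-/

set_option autoImplicit false

namespace Cfsg.Agent.Lib.Helper5.St

open Cfsg.Lie Cfsg.Agent.Lib.Helper5.Chev Cfsg.Agent.Lib.Helper5.Tw

/-- the facts on a fundamental root `p` (with packed reflection `B`) used below -/
structure SFacts (K : Type*) [Field K] (D : ChevalleyDatum) (hadd : AllAdd K D) (B p : ℕ) : Prop where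
  hp : p < D.nroots
  hq : D.neg p < D.nroots
  negneg : D.neg (D.neg p) = p
  hposp : D.nroots / 2 ≤ p
  hnegq : D.neg p < D.nroots / 2
  even : D.nroots % 2 = 0
  wlt : ∀ s < D.nroots, wOf B s < D.nroots
  wp : wOf B p = D.neg p
  wq : wOf B (D.neg p) = p
  posOK : ListOK D B p (posNot D p)
  negOK : ∃ M : List ℕ, ListOK D B p M ∧ RData.InjL K D hadd M ∧
    ∀ s < D.nroots / 2, s ≠ D.neg p → s ∈ M
  pm : ∃ a b, PmOK D B p a b
  gconj : ∀ τ : K, τ ≠ 0 → ∀ s < D.nroots, ∃ c : K, c ≠ 0 ∧ ∀ u : K,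
    hadd.wordU (D.nWord p τ) * hadd.xU s u * (hadd.wordU (D.nWord p τ))⁻¹
      = hadd.xU (wOf B s) (c * u)

theorem conj_mem_nzr {G : Type*} [Group G] (H : Subgroup G) (n g : G)
    (hn : n ∈ Subgroup.normalizer (H : Set G)) (hg : g ∈ H) : n * g * n⁻¹ ∈ H :=
  (Subgroup.mem_normalizer_iff.1 hn g).1 hg

namespace RData

variable {K : Type*} [Field K] {D : ChevalleyDatum} {Γ : Type*} [Group Γ] (R : RData K D Γ)

/-- the element `n_p(τ)` of the abstract group -/
def nbar (p : ℕ) (τ : K) : Γ := wordG R.X (D.nWord p τ)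

theorem nbar_eq (p : ℕ) (τ : K) :
    R.nbar p τ = R.X p τ * R.X (D.neg p) (-τ⁻¹) * R.X p τ := by
  unfold nbar ChevalleyDatum.nWord wordG
  simp [mul_assoc]

theorem theta_nbar (p : ℕ) (hp : p < D.nroots) (hq : D.neg p < D.nroots) (τ : K) :
    R.θ (R.nbar p τ) = R.hadd.wordU (D.nWord p τ) := by
  apply R.theta_word
  intro x hx
  unfold ChevalleyDatum.nWord at hx
  simp only [List.mem_cons, List.not_mem_nil, or_false] at hx
  rcases hx with rfl | rfl | rfl
  · exact hp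
  · exact hq
  · exact hp

theorem nbar_inv (p : ℕ) (hp : p < D.nroots) (hq : D.neg p < D.nroots) (τ : K) :
    (R.nbar p τ)⁻¹ = R.nbar p (-τ) := by
  rw [R.nbar_eq, R.nbar_eq, mul_inv_rev, mul_inv_rev, R.X_inv p hp, R.X_inv _ hq, mul_assoc,
    inv_neg, neg_neg]

variable {B p : ℕ} (F : SFacts K D R.hadd B p)

include F

/-- `X_{± p}` and `n_p(τ)` normalise the subgroup of a list with the stability properties -/
theorem Xp_mem_normalizer (M : List ℕ) (hM : ListOK D B p M) (t : K) :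
    R.X p t ∈ Subgroup.normalizer (R.UL M : Set Γ) :=
  R.X_mem_normalizer_UL p F.hp M
    (fun s hs => ⟨goodL_lt hM.good s hs, (hM.ne s hs).1, (hM.ne s hs).2, hM.termsP s hs⟩) t

theorem Xq_mem_normalizer (M : List ℕ) (hM : ListOK D B p M) (t : K) :
    R.X (D.neg p) t ∈ Subgroup.normalizer (R.UL M : Set Γ) :=
  R.X_mem_normalizer_UL (D.neg p) F.hq M
    (fun s hs => ⟨goodL_lt hM.good s hs, (hM.ne s hs).2, by rw [F.negneg]; exact (hM.ne s hs).1,
      hM.termsQ s hs⟩) t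

theorem nbar_mem_normalizer (M : List ℕ) (hM : ListOK D B p M) (τ : K) :
    R.nbar p τ ∈ Subgroup.normalizer (R.UL M : Set Γ) := by
  rw [R.nbar_eq]
  exact Subgroup.mul_mem _ (Subgroup.mul_mem _ (R.Xp_mem_normalizer F M hM τ)
    (R.Xq_mem_normalizer F M hM _)) (R.Xp_mem_normalizer F M hM τ)

/-- the action of `n_p(τ)` on the root elements of a stable list: pulled back from the matrix
group -/
theorem nbar_conj_list (M : List ℕ) (hM : ListOK D B p M) (hinj : InjL K D R.hadd M)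
    (τ : K) (s : ℕ) (hs : s ∈ M) (c : K)
    (hc : ∀ u : K, R.hadd.wordU (D.nWord p τ) * R.hadd.xU s u * (R.hadd.wordU (D.nWord p τ))⁻¹
      = R.hadd.xU (wOf B s) (c * u)) (u : K) :
    R.nbar p τ * R.X s u * (R.nbar p τ)⁻¹ = R.X (wOf B s) (c * u) := by
  have hslt := goodL_lt hM.good s hs
  apply R.theta_inj_UL' M hM.good hinj
  · exact conj_mem_nzr _ _ _ (R.nbar_mem_normalizer F M hM τ) (R.X_mem_UL M s hs u)
  · exact R.X_mem_UL M _ (hM.refl s hs) _
  · rw [map_mul, map_mul, map_inv, R.theta_nbar p F.hp F.hq, R.hθ s hslt, R.hθ _ (F.wlt s hslt)]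
    exact hc u

/-- the case of the roots other than `± p` -/
theorem nbar_conj_ne (τ : K) (hτ : τ ≠ 0) (s : ℕ) (hs : s < D.nroots) (hsp : s ≠ p)
    (hsq : s ≠ D.neg p) :
    ∃ c : K, c ≠ 0 ∧ ∀ u : K, R.nbar p τ * R.X s u * (R.nbar p τ)⁻¹ = R.X (wOf B s) (c * u) := by
  obtain ⟨c, hc0, hc⟩ := F.gconj τ hτ s hs
  refine ⟨c, hc0, fun u => ?_⟩
  by_cases hpos : D.nroots / 2 ≤ s
  · exact R.nbar_conj_list F (posNot D p) F.posOK (injL_filter R.hD R.hadd _) τ s
      ((mem_posNot F.even p s).2 ⟨⟨hpos, hs⟩, hsp⟩) c hc u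
  · obtain ⟨M, hM, hinj, hcov⟩ := F.negOK
    exact R.nbar_conj_list F M hM hinj τ s (hcov s (by omega) hsq) c hc u

end RData

end Cfsg.Agent.Lib.Helper5.St
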