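import Cfsg.Agent.Lib.Helper5.St.WeylRel
import Cfsg.Agent.Lib.Helper5.Chev.Core
import Mathlib

/-!
# The action of `n_p(τ)` on the root elements of `± p` in the abstract group (helper5)
-/

set_option autoImplicit false

namespace Cfsg.Agent.Lib.Helper5.St

open Cfsg.Lie Cfsg.Agent.Lib.Helper5.Chev Cfsg.Agent.Lib.Helper5.Tw

/-- the word of a list of terms of the commutator formula -/
def termW {K : Type*} [Field K] (L : List (ℕ × ℤ × ℕ × ℕ)) (t u : K) : List (ℕ × K) :=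
  L.map fun c => (c.1, (c.2.1 : K) * (-t) ^ c.2.2.1 * u ^ c.2.2.2)

theorem commWord_split {K : Type*} [Field K] {D : ChevalleyDatum} (a b : ℕ) (t u : K)
    (pre post : List (ℕ × ℤ × ℕ × ℕ)) (c0 : ℕ × ℤ × ℕ × ℕ)
    (h : D.commTerms a b = pre ++ c0 :: post) :
    D.commWord K a b t u = termW pre t u ++
      (c0.1, (c0.2.1 : K) * (-t) ^ c0.2.2.1 * u ^ c0.2.2.2) :: termW post t u := by
  unfold ChevalleyDatum.commWord termW
  rw [h, List.map_append, List.map_cons]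

/-- extracting a factor from a commutator relation -/
theorem extract_factor {G : Type*} [Group G] (r s w w1 x w2 : G) (h : s * r = r * s * w)
    (hw : w = w1 * x * w2) : x = w1⁻¹ * ((r * s)⁻¹ * (s * r)) * w2⁻¹ := by
  rw [h, hw]
  group

namespace RData

variable {K : Type*} [Field K] {D : ChevalleyDatum} {Γ : Type*} [Group Γ] (R : RData K D Γ)

theorem termW_mem_UL (M : List ℕ) (L : List (ℕ × ℤ × ℕ × ℕ)) (hL : ∀ d ∈ L, d.1 ∈ M) (t u : K) :
    wordG R.X (termW L t u) ∈ R.UL M := by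
  apply R.wordG_mem_UL
  intro x hx
  unfold termW at hx
  rw [List.mem_map] at hx
  obtain ⟨d, hd, rfl⟩ := hx
  exact hL d hd

/-- the image of the subgroup of a list of positive roots lies in `U` -/
theorem theta_UL_pos (M : List ℕ) (hM : ∀ r ∈ M, D.IsPosRoot r) (g : Γ) (hg : g ∈ R.UL M) :
    R.θ g ∈ D.posUnipotent K := by
  have : R.UL M ≤ (D.posUnipotent K).comap R.θ := by
    unfold UL
    rw [Subgroup.closure_le]
    rintro x ⟨r, hr, t, rfl⟩
    show R.θ (R.X r t) ∈ D.posUnipotent K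
    rw [R.hθ r (hM r hr).1]
    exact Subgroup.subset_closure ⟨r, t, hM r hr, rfl⟩
  exact this hg

variable {B p : ℕ} (F : SFacts K D R.hadd B p)

include F

theorem posNot_pos : ∀ r ∈ posNot D p, D.IsPosRoot r := by
  intro r hr
  rw [mem_posNot F.even] at hr
  exact (pos_iff_all D R.hD r hr.1.2).2 hr.1.1

/-- the action of `n_p(τ)` on `X_p` -/
theorem nbar_conj_p (τ : K) (hτ : τ ≠ 0) :
    ∃ c : K, c ≠ 0 ∧ ∀ e : K, R.nbar p τ * R.X p e * (R.nbar p τ)⁻¹ = R.X (D.neg p) (c * e) := by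
  obtain ⟨a, b, P⟩ := F.pm
  obtain ⟨pre, c0, post, hsplit, hc0p, hC, hii, hpre, hpost⟩ := P.split
  obtain ⟨pre', c0', post', hsplit', hc0q, hpre', hpost'⟩ := P.split'
  obtain ⟨c, hcne, hc⟩ := F.gconj τ hτ p F.hp
  rw [F.wp] at hc
  refine ⟨c, hcne, fun e => ?_⟩
  set M := posNot D p with hMdef
  have hMOK : ListOK D B p M := F.posOK
  have hinjM : InjL K D R.hadd M := injL_filter R.hD R.hadd _
  have hmemM : ∀ d : ℕ × ℤ × ℕ × ℕ, (D.nroots / 2 ≤ d.1 ∧ d.1 < D.nroots) ∧ d.1 ≠ p → d.1 ∈ M :=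
    fun d hd => (mem_posNot F.even p d.1).2 hd
  set n := R.nbar p τ with hn
  have hnN : n ∈ Subgroup.normalizer (R.UL M : Set Γ) := R.nbar_mem_normalizer F M hMOK τ
  -- the parameters
  set C : K := (c0.2.1 : K) with hCdef
  have hCC : C * C = 1 := by
    rcases hC with h | h <;> rw [hCdef, h] <;> simp
  set t : K := -(C * e) with ht
  -- the relation for `(a, b)`
  have hR2 := R.comm a P.ha b P.hb P.hba P.hbna t 1
  have hW := commWord_split (K := K) a b t 1 pre post c0 hsplit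
  have he : (c0.2.1 : K) * (-t) ^ c0.2.2.1 * (1 : K) ^ c0.2.2.2 = e := by
    rw [hii, pow_one, one_pow, mul_one, ht, neg_neg, ← mul_assoc, ← hCdef, hCC, one_mul]
  rw [he, hc0p] at hW
  have hWG : wordG R.X (D.commWord K a b t 1)
      = wordG R.X (termW pre t 1) * R.X p e * wordG R.X (termW post t 1) := by
    rw [hW, wordG_append, wordG_cons, mul_assoc]
  have hx := extract_factor _ _ _ _ _ _ hR2 hWG
  -- conjugation by `n`
  obtain ⟨ca, -, hca⟩ := R.nbar_conj_ne F τ hτ a P.ha P.hap P.haq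
  obtain ⟨cb, -, hcb⟩ := R.nbar_conj_ne F τ hτ b P.hb P.hbp P.hbq
  have hR2' := R.comm (wOf B a) P.ha' (wOf B b) P.hb' P.hba' P.hbna' (ca * t) (cb * 1)
  have hW' := commWord_split (K := K) (wOf B a) (wOf B b) (ca * t) (cb * 1) pre' post' c0' hsplit'
  rw [hc0q] at hW'
  set e'' : K := (c0'.2.1 : K) * (-(ca * t)) ^ c0'.2.2.1 * (cb * 1) ^ c0'.2.2.2 with he''
  have hWG' : wordG R.X (D.commWord K (wOf B a) (wOf B b) (ca * t) (cb * 1))
      = wordG R.X (termW pre' (ca * t) (cb * 1)) * R.X (D.neg p) e'' *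
        wordG R.X (termW post' (ca * t) (cb * 1)) := by
    rw [hW', wordG_append, wordG_cons, mul_assoc]
  set W1 := wordG R.X (termW pre t 1) with hW1
  set W2 := wordG R.X (termW post t 1) with hW2
  set W1' := wordG R.X (termW pre' (ca * t) (cb * 1)) with hW1'
  set W2' := wordG R.X (termW post' (ca * t) (cb * 1)) with hW2'
  have hW1M : W1 ∈ R.UL M := R.termW_mem_UL M pre (fun d hd => hmemM d (hpre d hd)) _ _
  have hW2M : W2 ∈ R.UL M := R.termW_mem_UL M post (fun d hd => hmemM d (hpost d hd)) _ _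
  have hW1'M : W1' ∈ R.UL M := R.termW_mem_UL M pre' (fun d hd => hmemM d (hpre' d hd)) _ _
  have hW2'M : W2' ∈ R.UL M := R.termW_mem_UL M post' (fun d hd => hmemM d (hpost' d hd)) _ _
  have hcW1 : n * W1 * n⁻¹ ∈ R.UL M := conj_mem_nzr _ _ _ hnN hW1M
  have hcW2 : n * W2 * n⁻¹ ∈ R.UL M := conj_mem_nzr _ _ _ hnN hW2M
  -- the conjugate of `X_p(e)`
  have hcomm' : (R.X (wOf B a) (ca * t) * R.X (wOf B b) (cb * 1))⁻¹ *
      (R.X (wOf B b) (cb * 1) * R.X (wOf B a) (ca * t)) = W1' * R.X (D.neg p) e'' * W2' := by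
    rw [hR2', hWG']
    group
  have key : n * R.X p e * n⁻¹ = ((n * W1 * n⁻¹)⁻¹ * W1') * R.X (D.neg p) e'' *
      (W2' * (n * W2 * n⁻¹)⁻¹) := by
    have e1 : n * R.X p e * n⁻¹ = (n * W1 * n⁻¹)⁻¹ *
        (((n * R.X a t * n⁻¹) * (n * R.X b 1 * n⁻¹))⁻¹ * ((n * R.X b 1 * n⁻¹) * (n * R.X a t * n⁻¹))) *
        (n * W2 * n⁻¹)⁻¹ := by
      rw [hx]
      group
    rw [e1, hca t, hcb 1, hcomm']
    group
  set α := (n * W1 * n⁻¹)⁻¹ * W1' with hα
  set β := W2' * (n * W2 * n⁻¹)⁻¹ with hβ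
  have hαM : α ∈ R.UL M := Subgroup.mul_mem _ (Subgroup.inv_mem _ hcW1) hW1'M
  have hβM : β ∈ R.UL M := Subgroup.mul_mem _ hW2'M (Subgroup.inv_mem _ hcW2)
  set β' := R.X (D.neg p) e'' * β * (R.X (D.neg p) e'')⁻¹ with hβ'
  have hβ'M : β' ∈ R.UL M := conj_mem_nzr _ _ _ (R.Xq_mem_normalizer F M hMOK e'') hβM
  have key2 : n * R.X p e * n⁻¹ = (α * β') * R.X (D.neg p) e'' := by
    rw [key, hβ']
    group
  -- the image in the matrix group
  have hθ1 : R.θ (n * R.X p e * n⁻¹) = R.hadd.xU (D.neg p) (c * e) := by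
    rw [map_mul, map_mul, map_inv, hn, R.theta_nbar p F.hp F.hq, R.hθ p F.hp]
    exact hc e
  have hθ2 : R.θ (α * β') = R.hadd.xU (D.neg p) (c * e + -e'') := by
    have := congrArg R.θ key2
    rw [hθ1, map_mul, R.hθ _ F.hq] at this
    have h2 : R.θ (α * β') = R.hadd.xU (D.neg p) (c * e) * (R.hadd.xU (D.neg p) e'')⁻¹ := by
      rw [this, mul_inv_cancel_right]
    rw [h2, xU_inv]
    apply Units.ext
    rw [Units.val_mul]
    exact R.hadd.x_add _ _ _
  have hU : R.θ (α * β') ∈ D.posUnipotent K :=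
    R.theta_UL_pos M (R.posNot_pos F) _ (Subgroup.mul_mem _ hαM hβ'M)
  have hV : R.hadd.xU (D.neg p) (c * e + -e'') ∈ D.negUnipotent K :=
    Subgroup.subset_closure ⟨_, _, neg_of_lt_half D R.hD _ F.hq F.hnegq, rfl⟩
  have hone : R.θ (α * β') = 1 := by
    have hmem : R.θ (α * β') ∈ D.borelSubgroup K ⊓ D.negUnipotent K :=
      ⟨(le_sup_left : D.posUnipotent K ≤ D.borelSubgroup K) hU, by rw [hθ2]; exact hV⟩
    rw [(borel_inf_neg_all (F := K) D R.hD).1, Subgroup.mem_bot] at hmem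
    exact hmem
  have hαβ : α * β' = 1 :=
    R.theta_inj_UL M hMOK.good hinjM _ (Subgroup.mul_mem _ hαM hβ'M) hone
  have hzero : c * e + -e'' = 0 := by
    rw [hone] at hθ2
    have h3 : D.x K (D.neg p) (c * e + -e'') = 1 := (congrArg Units.val hθ2).symm
    exact xInj_all (F := K) D R.hD _ F.hq _ h3
  have hee : e'' = c * e := by
    have := eq_neg_of_add_eq_zero_left hzero
    rw [neg_neg] at this
    exact this.symm
  rw [key2, hαβ, one_mul, hee]

/-- the action of `n_p(τ)` on `X_{-p}` -/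
theorem nbar_conj_q (τ : K) (hτ : τ ≠ 0) :
    ∃ c : K, c ≠ 0 ∧ ∀ e : K, R.nbar p τ * R.X (D.neg p) e * (R.nbar p τ)⁻¹ = R.X p (c * e) := by
  obtain ⟨c, hc0, hc⟩ := R.nbar_conj_p F (-τ) (neg_ne_zero.2 hτ)
  refine ⟨c⁻¹, inv_ne_zero hc0, fun e => ?_⟩
  have h1 := hc (c⁻¹ * e)
  rw [← mul_assoc, mul_inv_cancel₀ hc0, one_mul] at h1
  rw [← h1, ← R.nbar_inv p F.hp F.hq τ]
  group

/-- the action of `n_p(τ)` on all root elements -/
theorem nbar_conj (τ : K) (hτ : τ ≠ 0) (s : ℕ) (hs : s < D.nroots) :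
    ∃ c : K, c ≠ 0 ∧ ∀ u : K, R.nbar p τ * R.X s u * (R.nbar p τ)⁻¹ = R.X (wOf B s) (c * u) := by
  by_cases hsp : s = p
  · subst hsp
    rw [F.wp]
    exact R.nbar_conj_p F τ hτ
  · by_cases hsq : s = D.neg p
    · subst hsq
      rw [F.wq]
      exact R.nbar_conj_q F τ hτ
    · exact R.nbar_conj_ne F τ hτ s hs hsp hsq

end RData

end Cfsg.Agent.Lib.Helper5.St
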